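import Cfsg.Agent.Lib.MinusEight.Defs

/-!
No absolutely irreducible group of class two inside the isometries of a form of minus type in dimension eight.
-/

set_option autoImplicit false

namespace Cfsg.Agent.Lib.MinusEight

open Matrix Module
open QuadraticMap (polarBilin)
open scoped MatrixGroups Matrix

variable {F : Type*} [Field F] [Fintype F] {Q : QuadraticForm F (Fin 8 → F)}

/-- An absolutely irreducible group of class two is impossible. -/
theorem classTwo_false (hQ : Minus Q) {R : Subgroup (GL (Fin 8) F)} (hR : R ≤ Cfsg.isometryGroup F ⇑Q)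
    (habs : Cfsg.Geo.ActsAbsolutelyIrreducibly (Cfsg.Geo.matrixSet R))
    (hcomm : ∀ x ∈ R, ∀ y ∈ R, x * y * x⁻¹ * y⁻¹ ∈ Cfsg.Geo.scalars (Fin 8) F) : False := by
  classical
  have hiso : ∀ g ∈ R, ∀ v : Fin 8 → F, Q (g.1 *ᵥ v) = Q v := fun g hg v => (hR hg) v 0
  obtain ⟨v0, hv0⟩ : ∃ v, Q v ≠ 0 := by
    by_contra h
    push Not at h
    refine hQ.no_ts_four (U := ⊤) (fun u _ => h u) ?_
    rw [finrank_top, Module.finrank_fin_fun]; omega
  have hsc : ∀ g ∈ R, ∀ c : F, g.1 = c • (1 : Matrix (Fin 8) (Fin 8) F) → c = 1 ∨ c = -1 := by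
    intro g hg c hc
    have h := hiso g hg v0
    rw [hc, Matrix.smul_mulVec, Matrix.one_mulVec, QuadraticMap.map_smul, smul_eq_mul] at h
    exact mul_self_eq_one_iff.1 ((mul_eq_right₀ hv0).1 h)
  have hsign : ∀ x ∈ R, ∀ y ∈ R, x.1 * y.1 = y.1 * x.1 ∨ x.1 * y.1 = -(y.1 * x.1) := by
    intro x hx y hy
    obtain ⟨c', hc⟩ := (Cfsg.Geo.mem_scalars_iff _).1 (hcomm x hx y hy)
    obtain ⟨c, hcc⟩ : ∃ c : F, (c' : F) = c := ⟨_, rfl⟩
    rw [hcc] at hc
    have hmem : x * y * x⁻¹ * y⁻¹ ∈ R := mul_mem (mul_mem (mul_mem hx hy) (inv_mem hx)) (inv_mem hy)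
    have e : x.1 * y.1 = c • (y.1 * x.1) := by
      have h : (x * y * x⁻¹ * y⁻¹ * (y * x)).1 = (x * y).1 := by congr 1; group
      rw [Units.val_mul, hc, Units.val_mul, Units.val_mul, smul_mul_assoc, one_mul] at h
      exact h.symm
    rcases hsc _ hmem c hc with rfl | rfl
    · left; rw [e, one_smul]
    · right; rw [e, neg_one_smul]
  have hpartner : ∀ x ∈ R, (∀ c : F, x.1 ≠ c • 1) → ∃ y ∈ R, x.1 * y.1 = -(y.1 * x.1) := by
    intro x hx hns
    by_contra h
    push Not at h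
    obtain ⟨c, hc⟩ := habs.2 x.1 (by
      rintro _ ⟨y, hy, rfl⟩
      exact (hsign x hx y hy).resolve_right (h y hy))
    exact hns c hc
  have hirr := habs.1
  -- there is an element which is not scalar
  have hnot : ∀ W : Submodule F (Fin 8 → F), W ≠ ⊥ → finrank F W ≤ 4 →
      (∀ g ∈ R, ∀ w ∈ W, g.1 *ᵥ w ∈ W) → False := by
    intro W h0 hd hW
    have htop := (hirr W (by
      rintro _ ⟨g, hg, rfl⟩ _ ⟨w, hw, rfl⟩
      rw [Matrix.toLin'_apply]
      exact hW g hg w hw)).resolve_left h0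
    rw [htop, finrank_top, Module.finrank_fin_fun] at hd
    omega
  obtain ⟨x, hx, hxns⟩ : ∃ x ∈ R, ∀ c : F, x.1 ≠ c • 1 := by
    by_contra h
    push Not at h
    refine hnot (Submodule.span F {Pi.single 0 1}) (by simp) ?_ fun g hg w hw => ?_
    · rw [finrank_span_singleton (by simp)]; omega
    · obtain ⟨c, hc⟩ := h g hg
      rw [hc, Matrix.smul_mulVec, Matrix.one_mulVec]
      exact Submodule.smul_mem _ _ hw
  obtain ⟨y, hy, hxy⟩ := hpartner x hx hxns
  have h2 : (2 : F) ≠ 0 := by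
    intro h2
    refine hxns 0 ?_
    exfalso
    have hone : ∀ M : Matrix (Fin 8) (Fin 8) F, -M = M := fun M => by
      rw [neg_eq_iff_add_eq_zero, ← two_smul F, h2, zero_smul]
    rw [hone] at hxy
    have hall : ∀ a ∈ R, ∀ b ∈ R, a.1 * b.1 = b.1 * a.1 := fun a ha b hb => by
      rcases hsign a ha b hb with h | h
      · exact h
      · rwa [hone] at h
    obtain ⟨c, hc⟩ := habs.2 x.1 (by rintro _ ⟨b, hb, rfl⟩; exact hall x hx b hb)
    exact hxns c hc
  -- squares are signs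
  have hsq : ∀ a ∈ R, a.1 * a.1 = 1 ∨ a.1 * a.1 = -1 := by
    intro a ha
    obtain ⟨c, hc⟩ := habs.2 (a.1 * a.1) (by
      rintro _ ⟨b, hb, rfl⟩
      rcases hsign a ha b hb with h | h
      · rw [mul_assoc, h, ← mul_assoc, h, mul_assoc]
      · rw [mul_assoc, h, mul_neg, ← mul_assoc, h, neg_mul, neg_neg, mul_assoc])
    rcases hsc (a * a) (mul_mem ha ha) c (by rw [Units.val_mul, hc]) with rfl | rfl
    · left; rw [hc, one_smul]
    · right; rw [hc, neg_one_smul]
  -- an involution with an anticommuting partner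
  obtain ⟨u, hu, w, hw, hu2, huw⟩ : ∃ u ∈ R, ∃ w ∈ R, u.1 * u.1 = 1 ∧ u.1 * w.1 = -(w.1 * u.1) := by
    rcases hsq x hx with hx2 | hx2
    · exact ⟨x, hx, y, hy, hx2, hxy⟩
    obtain ⟨v, hv⟩ : ∃ v : Fin 8 → F, v ≠ 0 := ⟨Pi.single 0 1, by simp⟩
    set W := Submodule.span F (Set.range ![v, x.1 *ᵥ v, y.1 *ᵥ v, (x.1 * y.1) *ᵥ v]) with hWdef
    have hWd : finrank F W ≤ 4 := (finrank_range_le_card _).trans (by simp)
    obtain ⟨g, hg, hgW⟩ : ∃ g ∈ R, ∀ a b c d : F,
        g.1 ≠ a • (1 : Matrix (Fin 8) (Fin 8) F) + b • x.1 + c • y.1 + d • (x.1 * y.1) := by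
      by_contra h
      push Not at h
      have hyx : y.1 * x.1 = -(x.1 * y.1) := by rw [hxy, neg_neg]
      rcases hsq y hy with hy2 | hy2 <;>
      · refine hnot W (fun h0 => hv ((Submodule.eq_bot_iff _).1 h0 v (Submodule.subset_span ⟨0, rfl⟩))) hWd
          fun g hg => ?_
        obtain ⟨a, b, c, d, hgab⟩ := h g hg
        intro w hw
        refine Submodule.span_induction ?_ ?_ ?_ ?_ hw
        · rintro _ ⟨i, rfl⟩
          have m : ∀ j, (![v, x.1 *ᵥ v, y.1 *ᵥ v, (x.1 * y.1) *ᵥ v]) j ∈ W := fun j =>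
            Submodule.subset_span ⟨j, rfl⟩
          have m0 : v ∈ W := m 0
          have m1 : x.1 *ᵥ v ∈ W := m 1
          have m2 : y.1 *ᵥ v ∈ W := m 2
          have m3 : (x.1 * y.1) *ᵥ v ∈ W := m 3
          have e1 : x.1 * (x.1 * y.1) = -y.1 := by rw [← mul_assoc, hx2, neg_one_mul]
          have e2 : y.1 * (x.1 * y.1) = -(x.1 * (y.1 * y.1)) := by rw [← mul_assoc, hyx, neg_mul, mul_assoc]
          have e3 : x.1 * y.1 * x.1 = -(x.1 * (x.1 * y.1)) := by rw [mul_assoc, hyx, mul_neg]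
          have e4 : x.1 * y.1 * y.1 = x.1 * (y.1 * y.1) := mul_assoc _ _ _
          have e5 : x.1 * y.1 * (x.1 * y.1) = -(x.1 * x.1 * (y.1 * y.1)) := by
            rw [mul_assoc, e2, mul_neg, ← mul_assoc]
          rcases i with ⟨i, hi⟩
          rcases (show i = 0 ∨ i = 1 ∨ i = 2 ∨ i = 3 by omega) with rfl | rfl | rfl | rfl
          · show g.1 *ᵥ v ∈ W
            rw [hgab]
            simp only [Matrix.add_mulVec, Matrix.smul_mulVec, Matrix.one_mulVec]
            exact W.add_mem (W.add_mem (W.add_mem (W.smul_mem _ m0) (W.smul_mem _ m1)) (W.smul_mem _ m2))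
              (W.smul_mem _ m3)
          · show g.1 *ᵥ (x.1 *ᵥ v) ∈ W
            simp only [hgab, Matrix.mulVec_mulVec, add_mul, smul_mul_assoc, Matrix.add_mulVec, Matrix.smul_mulVec, one_mul, hx2, hyx, e3, e1,
              Matrix.neg_mulVec, Matrix.one_mulVec, neg_neg]
            refine W.add_mem (W.add_mem (W.add_mem (W.smul_mem _ ?_) (W.smul_mem _ ?_)) (W.smul_mem _ ?_))
              (W.smul_mem _ ?_)
            exacts [m1, W.neg_mem m0, W.neg_mem m3, m2]
          · show g.1 *ᵥ (y.1 *ᵥ v) ∈ W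
            simp only [hgab, Matrix.mulVec_mulVec, add_mul, smul_mul_assoc, Matrix.add_mulVec, Matrix.smul_mulVec, one_mul, hy2, e4,
              Matrix.neg_mulVec, Matrix.one_mulVec, neg_neg, mul_neg, mul_one]
            refine W.add_mem (W.add_mem (W.add_mem (W.smul_mem _ ?_) (W.smul_mem _ ?_)) (W.smul_mem _ ?_))
              (W.smul_mem _ ?_)
            all_goals first
              | exact m0 | exact m1 | exact m2 | exact m3
              | exact W.neg_mem m0 | exact W.neg_mem m1 | exact W.neg_mem m2 | exact W.neg_mem m3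
          · show g.1 *ᵥ ((x.1 * y.1) *ᵥ v) ∈ W
            simp only [hgab, Matrix.mulVec_mulVec, add_mul, smul_mul_assoc, Matrix.add_mulVec, Matrix.smul_mulVec, one_mul, e1, e2, e5, hx2, hy2,
              mul_neg, mul_one, Matrix.neg_mulVec, Matrix.one_mulVec, neg_neg]
            refine W.add_mem (W.add_mem (W.add_mem (W.smul_mem _ ?_) (W.smul_mem _ ?_)) (W.smul_mem _ ?_))
              (W.smul_mem _ ?_)
            all_goals first
              | exact m0 | exact m1 | exact m2 | exact m3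
              | exact W.neg_mem m0 | exact W.neg_mem m1 | exact W.neg_mem m2 | exact W.neg_mem m3
        · rw [Matrix.mulVec_zero]; exact W.zero_mem
        · intro p q _ _ hp hq; rw [Matrix.mulVec_add]; exact W.add_mem hp hq
        · intro k p _ hp; rw [Matrix.mulVec_smul]; exact W.smul_mem k hp
    have hyx : y.1 * x.1 = -(x.1 * y.1) := by rw [hxy, neg_neg]
    obtain ⟨z, hz, hzns, hzx, hzy⟩ : ∃ z ∈ R, (∀ c : F, z.1 ≠ c • 1) ∧ x.1 * z.1 = z.1 * x.1 ∧
        y.1 * z.1 = z.1 * y.1 := by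
      have hxi : ((x⁻¹ : GL (Fin 8) F)).1 = -x.1 := Units.inv_eq_of_mul_eq_one_right (by rw [mul_neg, hx2, neg_neg])
      have key : ∀ p ∈ R, ∀ a b c d : F, ((p⁻¹ : GL (Fin 8) F)).1 =
            a • (1 : Matrix (Fin 8) (Fin 8) F) + b • x.1 + c • y.1 + d • (x.1 * y.1) →
          x.1 * (g.1 * p.1) = (g.1 * p.1) * x.1 → y.1 * (g.1 * p.1) = (g.1 * p.1) * y.1 →
          ∃ z ∈ R, (∀ c : F, z.1 ≠ c • 1) ∧ x.1 * z.1 = z.1 * x.1 ∧ y.1 * z.1 = z.1 * y.1 := by
        intro p hp a b c d hpi h1 h2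
        refine ⟨g * p, mul_mem hg hp, fun k hk => ?_, h1, h2⟩
        refine hgW (k * a) (k * b) (k * c) (k * d) ?_
        have e : g.1 = (g * p).1 * ((p⁻¹ : GL (Fin 8) F)).1 := by rw [← Units.val_mul, mul_inv_cancel_right]
        rw [e, hk, hpi, smul_mul_assoc, one_mul, smul_add, smul_add, smul_add, smul_smul, smul_smul,
          smul_smul, smul_smul]
      obtain ⟨cy, hcy⟩ : ∃ cy : F, ((y⁻¹ : GL (Fin 8) F)).1 = cy • y.1 := by
        rcases hsq y hy with h | h
        · exact ⟨1, by rw [one_smul]; exact Units.inv_eq_of_mul_eq_one_right h⟩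
        · exact ⟨-1, by rw [neg_one_smul]; exact Units.inv_eq_of_mul_eq_one_right (by rw [mul_neg, h, neg_neg])⟩
      rcases hsign x hx g hg with hgx | hgx <;> rcases hsign y hy g hg with hgy | hgy
      · exact key 1 R.one_mem 1 0 0 0 (by simp) (by simpa using hgx) (by simpa using hgy)
      · refine key x hx 0 (-1) 0 0 (by simp [hxi]) ?_ ?_
        · rw [← mul_assoc, hgx]
        · rw [← mul_assoc, hgy, neg_mul, mul_assoc, hyx, mul_neg, neg_neg, mul_assoc]
      · refine key y hy 0 0 cy 0 (by simp [hcy]) ?_ ?_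
        · rw [← mul_assoc, hgx, neg_mul, mul_assoc, hxy, mul_neg, neg_neg, mul_assoc]
        · rw [← mul_assoc, hgy]
      · refine key (x * y) (mul_mem hx hy) 0 0 0 cy ?_ ?_ ?_
        · rw [_root_.mul_inv_rev, Units.val_mul, hcy, hxi, smul_mul_assoc, mul_neg, hyx, neg_neg]; simp
        · rw [Units.val_mul, ← mul_assoc, hgx, neg_mul, mul_assoc g.1, mul_assoc g.1, mul_assoc x.1, hyx,
            mul_neg, mul_neg]
        · rw [Units.val_mul, ← mul_assoc, hgy, neg_mul, mul_assoc g.1, mul_assoc g.1, ← mul_assoc y.1, hyx,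
            neg_mul, mul_neg, neg_neg, mul_assoc x.1]
    rcases hsq z hz with hz2 | hz2
    · obtain ⟨w, hw, hzw⟩ := hpartner z hz hzns
      exact ⟨z, hz, w, hw, hz2, hzw⟩
    · refine ⟨x * z, mul_mem hx hz, y, hy, ?_, ?_⟩
      · rw [Units.val_mul, mul_assoc, ← mul_assoc z.1, ← hzx, mul_assoc x.1, hz2, mul_neg, mul_one, mul_neg, hx2,
          neg_neg]
      · rw [Units.val_mul, mul_assoc, ← hzy, ← mul_assoc, hxy, neg_mul, mul_assoc]
  -- its eigenspaces are isometric and orthogonal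
  set Lu := Matrix.toLin' u.1 with hLu
  set W := LinearMap.ker (Lu - LinearMap.id) with hW
  set W' := LinearMap.ker (Lu + LinearMap.id) with hW'
  have memW : ∀ v, v ∈ W ↔ u.1 *ᵥ v = v := fun v => by
    rw [hW, LinearMap.mem_ker, LinearMap.sub_apply, LinearMap.id_apply, sub_eq_zero, hLu, Matrix.toLin'_apply]
  have memW' : ∀ v, v ∈ W' ↔ u.1 *ᵥ v = -v := fun v => by
    rw [hW', LinearMap.mem_ker, LinearMap.add_apply, LinearMap.id_apply, add_eq_zero_iff_eq_neg, hLu,
      Matrix.toLin'_apply]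
  have horth : ∀ a ∈ W, ∀ b ∈ W', QuadraticMap.polar ⇑Q a b = 0 := by
    intro a ha b hb
    have h : QuadraticMap.polar ⇑Q (u.1 *ᵥ a) (u.1 *ᵥ b) = QuadraticMap.polar ⇑Q a b := by
      simp only [QuadraticMap.polar, ← Matrix.mulVec_add, hiso u hu]
    rw [(memW a).1 ha, (memW' b).1 hb, QuadraticMap.polar_neg_right, neg_eq_iff_add_eq_zero, ← two_mul] at h
    exact (mul_eq_zero.1 h).resolve_left h2
  have hsup : W ⊔ W' = ⊤ := by
    refine Submodule.eq_top_iff'.2 fun v => Submodule.mem_sup.2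
      ⟨(2 : F)⁻¹ • (v + u.1 *ᵥ v), ?_, (2 : F)⁻¹ • (v - u.1 *ᵥ v), ?_, ?_⟩
    · rw [memW, Matrix.mulVec_smul, Matrix.mulVec_add, Matrix.mulVec_mulVec, hu2, Matrix.one_mulVec, add_comm]
    · rw [memW', Matrix.mulVec_smul, Matrix.mulVec_sub, Matrix.mulVec_mulVec, hu2, Matrix.one_mulVec, ← smul_neg,
        neg_sub]
    · rw [← smul_add, add_add_sub_cancel, ← two_smul F v, smul_smul, inv_mul_cancel₀ h2, one_smul]
  have hinf : W ⊓ W' = ⊥ := by
    rw [Submodule.eq_bot_iff]
    rintro v ⟨h1, h1'⟩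
    have h := ((memW v).1 h1).symm.trans ((memW' v).1 h1')
    rw [eq_neg_iff_add_eq_zero, ← two_smul F, smul_eq_zero] at h
    exact h.resolve_left h2
  have hinj : Function.Injective (Matrix.toLin' w.1) := fun a b hab => by
    have h := congrArg (fun v => ((w⁻¹ : GL (Fin 8) F)).1 *ᵥ v) hab
    simpa [Matrix.toLin'_apply, Matrix.mulVec_mulVec] using h
  have hle : W.map (Matrix.toLin' w.1) ≤ W' := by
    rintro _ ⟨v, hv, rfl⟩
    rw [memW', Matrix.toLin'_apply, Matrix.mulVec_mulVec, huw, Matrix.neg_mulVec, ← Matrix.mulVec_mulVec,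
      (memW v).1 hv]
  have hle' : W'.map (Matrix.toLin' w.1) ≤ W := by
    rintro _ ⟨v, hv, rfl⟩
    rw [memW, Matrix.toLin'_apply, Matrix.mulVec_mulVec, huw, Matrix.neg_mulVec, ← Matrix.mulVec_mulVec,
      (memW' v).1 hv, Matrix.mulVec_neg, neg_neg]
  have h8 := Submodule.finrank_sup_add_finrank_inf_eq W W'
  rw [hsup, hinf, finrank_bot, finrank_top, Module.finrank_fin_fun, add_zero] at h8
  have d1 := Submodule.finrank_mono hle
  have d2 := Submodule.finrank_mono hle'
  rw [← (Submodule.equivMapOfInjective _ hinj W).finrank_eq] at d1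
  rw [← (Submodule.equivMapOfInjective _ hinj W').finrank_eq] at d2
  exact hQ.no_iso_pair (W := W) (W' := W') (by omega) (by omega) horth hsup (Matrix.toLin' w.1) hinj
    (fun v => by rw [Matrix.toLin'_apply, hiso w hw])
    (Submodule.eq_of_le_of_finrank_eq hle (by
      rw [← (Submodule.equivMapOfInjective _ hinj W).finrank_eq]; omega))

end Cfsg.Agent.Lib.MinusEight
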