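import Cfsg.Agent.Lib.MinusEight.Defs
import Cfsg.Agent.Lib.TwoPrimeDim.Core
import Cfsg.Agent.Lib.TwoPrimeDim.Homogeneous

/-!
In `Ω₈⁻(q)` a minimal normal subgroup of an irreducible group in no geometric class is perfect, absolutely
irreducible and simple modulo scalars.
-/

set_option autoImplicit false
set_option linter.unusedSectionVars false

namespace Cfsg.Agent.Lib.MinusEight

open Matrix Module Cfsg.Geo
open QuadraticMap (polarBilin)
open scoped MatrixGroups Matrix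

variable {F : Type*} [Field F] [Fintype F] {Q : QuadraticForm F (Fin 8 → F)}

/-- What is used about blocks. -/
def BlocksStep (Q : QuadraticForm F (Fin 8 → F)) : Prop :=
  ∀ (G N : Subgroup (GL (Fin 8) F)), G ≤ Cfsg.isometryGroup F ⇑Q → ActsIrreducibly (matrixSet G) → N ≤ G →
    ∀ (t w : ℕ) (e : Fin t → Matrix (Fin 8) (Fin 8) F), TwoPrimeDim.Blocks G N w e → False

/-- What is used about homogeneous components. -/
def TensorStep (Q : QuadraticForm F (Fin 8 → F)) : Prop :=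
  ∀ (G N : Subgroup (GL (Fin 8) F)), G ≤ Cfsg.isometryGroup F ⇑Q → ActsIrreducibly (matrixSet G) → N ≤ G →
    (∀ g ∈ G, ∀ x ∈ N, g * x * g⁻¹ ∈ N) →
    ∀ (d k : ℕ), d * k = 8 → 1 < d → 1 < k → ∀ (A : N → Matrix (Fin d) (Fin d) F),
      (∀ U : Submodule F (Fin d → F), (∀ n, ∀ u ∈ U, A n *ᵥ u ∈ U) → U = ⊥ ∨ U = ⊤) →
      (∀ X : Matrix (Fin d) (Fin d) F, (∀ n, X * A n = A n * X) → ∃ c : F, X = c • 1) →
      ∀ (φ : Fin k → (Fin d → F) →ₗ[F] (Fin 8 → F)),
      (∀ j (n : N) x, ((n : GL (Fin 8) F) : Matrix (Fin 8) (Fin 8) F) *ᵥ φ j x = φ j (A n *ᵥ x)) →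
      Function.Bijective (MaxTensor.assemble φ) → False

/-- What is used about groups which are abelian modulo scalars. -/
def ClassTwoStep (Q : QuadraticForm F (Fin 8 → F)) : Prop :=
  ∀ R : Subgroup (GL (Fin 8) F), R ≤ Cfsg.isometryGroup F ⇑Q → ActsAbsolutelyIrreducibly (matrixSet R) →
    (∀ x ∈ R, ∀ y ∈ R, x * y * x⁻¹ * y⁻¹ ∈ scalars (Fin 8) F) → False

/-- Away from blocks, fields and tensor products a normal subgroup is scalar or absolutely irreducible. -/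
theorem scalar_or_absIrred (hB : BlocksStep Q) (hT : TensorStep Q) {G N : Subgroup (GL (Fin 8) F)}
    (hG : G ≤ Cfsg.isometryGroup F ⇑Q) (hirr : ActsIrreducibly (matrixSet G)) (hNG : N ≤ G)
    (hnorm : ∀ g ∈ G, ∀ x ∈ N, g * x * g⁻¹ ∈ N)
    (hfield : ∀ (r : ℕ) (K : Subalgebra F (Matrix (Fin 8) (Fin 8) F)), IsFieldSubalgebra r K → 1 < r → r ∣ 8 →
      (∀ g ∈ G, g ∈ subalgebraNormalizer K) → False) :
    N ≤ scalars (Fin 8) F ∨ ActsAbsolutelyIrreducibly (matrixSet N) := by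
  classical
  rcases TwoPrimeDim.centre_cases hirr hnorm with ⟨r, hr, hK⟩ | ⟨t, w, e, hb⟩
  swap
  · exact (hB G N hG hirr hNG t w e hb).elim
  rw [Fintype.card_fin] at hr
  have hr1 : r = 1 := by
    rcases Nat.lt_or_ge 1 r with h | h
    · exact (hfield r _ hK h hr fun g hg => TwoPrimeDim.centre_normalized hnorm hg).elim
    · rcases Nat.eq_zero_or_pos r with h0 | h0
      · rw [h0, Nat.zero_dvd] at hr
        omega
      · omega
  have hc : ∀ M ∈ TwoPrimeDim.centre N, ∃ c : F, M = c • (1 : Matrix (Fin 8) (Fin 8) F) := by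
    intro M hM
    obtain ⟨c, hcM⟩ := (finrank_eq_one_iff_of_nonzero'
      (⟨1, (TwoPrimeDim.centre N).one_mem⟩ : Subalgebra.toSubmodule (TwoPrimeDim.centre N))
      (fun h => zero_ne_one (α := Matrix (Fin 8) (Fin 8) F) (congrArg Subtype.val h).symm)).mp
        (hK.finrank_eq.trans hr1) ⟨M, hM⟩
    exact ⟨c, (congrArg Subtype.val hcM).symm⟩
  obtain ⟨d, k, A, φ, hdk, hd, hk, hAirr, hAscal, hφ, hbij⟩ := TwoPrimeDim.homogeneous hirr hnorm hc
  rw [Fintype.card_fin] at hdk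
  rcases eq_or_lt_of_le (Nat.one_le_iff_ne_zero.mpr hd.ne') with hd1 | hd1
  · left
    subst hd1
    intro x hx
    set a := A ⟨x, hx⟩ 0 0
    refine KnownA.PrimeDim.mem_scalars_of_matrix (by simp) (c := a) (TwoPrimeDim.eq_of_mulVec fun v => ?_)
    obtain ⟨u, rfl⟩ := hbij.2 v
    have hA1 : ∀ y : Fin 1 → F, A ⟨x, hx⟩ *ᵥ y = a • y := fun y => by
      funext i
      obtain rfl : i = 0 := Subsingleton.elim _ _
      simp [Matrix.mulVec, dotProduct, a]
    simp only [MaxTensor.assemble, LinearMap.coe_mk, AddHom.coe_mk, Matrix.mulVec_sum,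
      Matrix.smul_mulVec, Matrix.one_mulVec]
    exact Finset.sum_congr rfl fun j _ => by rw [hφ j ⟨x, hx⟩, hA1, map_smul]
  rcases eq_or_lt_of_le (Nat.one_le_iff_ne_zero.mpr hk.ne') with hk1 | hk1
  swap
  · exact (hT G N hG hirr hNG hnorm d k hdk hd1 hk1 A hAirr hAscal φ hφ hbij).elim
  right
  subst hk1
  have hval : ∀ u, MaxTensor.assemble φ u = φ 0 (u 0) := fun u => by simp [MaxTensor.assemble]
  have h0 : Function.Bijective (φ 0) := by
    refine ⟨fun a b hab => ?_, fun v => ?_⟩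
    · exact congrFun (hbij.1 (a₁ := fun _ => a) (a₂ := fun _ => b) (by rw [hval, hval, hab])) 0
    · obtain ⟨u, rfl⟩ := hbij.2 v
      exact ⟨u 0, (hval u).symm⟩
  let Φ := LinearEquiv.ofBijective (φ 0) h0
  refine ⟨(TwoPrimeDim.actsIrreducibly_iff N).mpr fun U hU => ?_, fun M hM => ?_⟩
  · rcases hAirr (U.comap (φ 0)) fun n u hu => by
        rw [Submodule.mem_comap] at hu ⊢
        rw [← hφ]
        exact hU n n.2 _ hu with h | h
    · left
      rw [← Submodule.map_comap_eq_of_surjective h0.2 U, h, Submodule.map_bot]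
    · right
      rw [← Submodule.map_comap_eq_of_surjective h0.2 U, h, Submodule.map_top, LinearMap.range_eq_top.mpr h0.2]
  · let X := LinearMap.toMatrix' (Φ.symm.toLinearMap ∘ₗ Matrix.toLin' M ∘ₗ Φ.toLinearMap)
    have hX : ∀ y, φ 0 (X *ᵥ y) = M *ᵥ φ 0 y := fun y => by
      rw [← Matrix.toLin'_apply X, Matrix.toLin'_toMatrix']
      simp only [LinearMap.comp_apply, LinearEquiv.coe_coe, Matrix.toLin'_apply]
      exact Φ.apply_symm_apply _
    obtain ⟨c, hcX⟩ := hAscal X fun n => Matrix.ext_of_mulVec_single fun i => h0.1 (by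
      rw [← Matrix.mulVec_mulVec, ← Matrix.mulVec_mulVec, hX, ← hφ, ← hφ, hX, Matrix.mulVec_mulVec,
        Matrix.mulVec_mulVec, hM _ ⟨n, n.2, rfl⟩])
    refine ⟨c, TwoPrimeDim.eq_of_mulVec fun v => ?_⟩
    obtain ⟨y, rfl⟩ := h0.2 v
    rw [← hX, hcX, Matrix.smul_mulVec, Matrix.one_mulVec, map_smul, Matrix.smul_mulVec, Matrix.one_mulVec]

/-- A minimal normal subgroup which is absolutely irreducible is a core. -/
theorem core (hB : BlocksStep Q) (hT : TensorStep Q) (hC : ClassTwoStep Q) {H P : Subgroup (GL (Fin 8) F)}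
    (hiso : H ≤ Cfsg.isometryGroup F ⇑Q) (hPH : P ≤ H) (hPn : ∀ g ∈ H, ∀ x ∈ P, g * x * g⁻¹ ∈ P)
    (hPsc : ¬ P ≤ scalars (Fin 8) F)
    (hmin : ∀ M : Subgroup (GL (Fin 8) F), M ≤ P → (∀ g ∈ H, ∀ x ∈ M, g * x * g⁻¹ ∈ M) →
      ¬ M ≤ scalars (Fin 8) F → M = P)
    (habs : ActsAbsolutelyIrreducibly (matrixSet P)) :
    ⁅P, P⁆ = P ∧ IsSimpleGroup (P ⧸ (scalars (Fin 8) F).subgroupOf P) ∧
      ¬ IsMulCommutative (P ⧸ (scalars (Fin 8) F).subgroupOf P) ∧
      ∀ h ∈ H, (∀ x ∈ P, h * x * h⁻¹ * x⁻¹ ∈ scalars (Fin 8) F) → h ∈ scalars (Fin 8) F := by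
  classical
  set Sc := scalars (Fin 8) F
  have h8 : 0 < Fintype.card (Fin 8) := by simp
  have hnabs : ∀ N : Subgroup (GL (Fin 8) F), N ≤ P → ActsAbsolutelyIrreducibly (matrixSet N) →
      ¬ ⁅N, N⁆ ≤ Sc := fun N hN ha h =>
    hC N ((hN.trans hPH).trans hiso) ha fun x hx y hy => by
      have := h (Subgroup.commutator_mem_commutator hx hy)
      rwa [commutatorElement_def] at this
  have hcn : ∀ (G N : Subgroup (GL (Fin 8) F)), (∀ g ∈ G, ∀ x ∈ N, g * x * g⁻¹ ∈ N) →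
      ∀ g ∈ G, ∀ x ∈ ⁅N, N⁆, g * x * g⁻¹ ∈ ⁅N, N⁆ := by
    intro G N hN g hg
    have : (⁅N, N⁆).map (MulAut.conj g).toMonoidHom ≤ ⁅N, N⁆ := by
      rw [Subgroup.map_commutator]
      refine Subgroup.commutator_mono ?_ ?_ <;> rintro _ ⟨x, hx, rfl⟩ <;> exact hN g hg x hx
    exact fun x hx => this ⟨x, hx, rfl⟩
  have hle : ∀ N : Subgroup (GL (Fin 8) F), ⁅N, N⁆ ≤ N := fun N => Subgroup.commutator_le.2 fun a ha b hb =>
    mul_mem (mul_mem (mul_mem ha hb) (inv_mem ha)) (inv_mem hb)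
  have hperf : ⁅P, P⁆ = P := hmin _ (hle P) (hcn H P hPn) (hnabs P le_rfl habs)
  have hfield : ∀ (r : ℕ) (K : Subalgebra F (Matrix (Fin 8) (Fin 8) F)), IsFieldSubalgebra r K → 1 < r → r ∣ 8 →
      (∀ g ∈ P, g ∈ subalgebraNormalizer K) → False := by
    intro r K hK h1 _ hg
    have hcom : ∀ k ∈ K, ∃ c : F, k = c • (1 : Matrix (Fin 8) (Fin 8) F) := by
      intro k hk
      refine habs.2 k ?_
      rintro _ ⟨x, hx, rfl⟩
      let C : Subgroup (GL (Fin 8) F) :=
        { carrier := {g | Commute (g : Matrix (Fin 8) (Fin 8) F) k}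
          mul_mem' := fun {a b} ha hb => by
            show Commute ((a * b : GL (Fin 8) F) : Matrix (Fin 8) (Fin 8) F) k
            rw [Units.val_mul]
            exact Commute.mul_left ha hb
          one_mem' := by show Commute ((1 : GL (Fin 8) F) : Matrix (Fin 8) (Fin 8) F) k; simp
          inv_mem' := fun {a} ha => Commute.units_inv_left ha }
      have hPC : ⁅P, P⁆ ≤ C := Subgroup.commutator_le.mpr fun a ha b hb =>
        KnownA.PrimeDim.commutator_centralizes h8 hK (hg a ha) (hg b hb) hk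
      exact (hPC (hperf.symm ▸ hx)).eq.symm
    have hbot : Subalgebra.toSubmodule K ≤ Submodule.span F {(1 : Matrix (Fin 8) (Fin 8) F)} := fun k hk => by
      obtain ⟨c, rfl⟩ := hcom k hk
      exact Submodule.smul_mem _ _ (Submodule.mem_span_singleton_self _)
    have := Submodule.finrank_mono hbot
    rw [finrank_span_singleton one_ne_zero] at this
    have h2 : Module.finrank F (Subalgebra.toSubmodule K) = r := hK.finrank_eq
    omega
  have hsub : ∀ N : Subgroup (GL (Fin 8) F), N ≤ P → (∀ g ∈ P, ∀ x ∈ N, g * x * g⁻¹ ∈ N) → ¬ N ≤ Sc →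
      ActsAbsolutelyIrreducibly (matrixSet N) := fun N hN hn hs =>
    (scalar_or_absIrred hB hT (hPH.trans hiso) habs.1 hN hn hfield).resolve_left hs
  obtain ⟨N, hNmem, hNmin⟩ := Set.exists_min_image
    {N : Subgroup (GL (Fin 8) F) | N ≤ P ∧ (∀ g ∈ P, ∀ x ∈ N, g * x * g⁻¹ ∈ N) ∧ ¬ N ≤ Sc} (fun N => Nat.card N)
    (Set.toFinite _) ⟨P, le_rfl, fun g hg x hx => mul_mem (mul_mem hg hx) (inv_mem hg), hPsc⟩
  obtain ⟨hNP, hNn, hNsc⟩ := hNmem
  have hNperf : ⁅N, N⁆ = N := Subgroup.eq_of_le_of_card_ge (hle N)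
    (hNmin _ ⟨(hle N).trans hNP, hcn P N hNn, hnabs N hNP (hsub N hNP hNn hNsc)⟩)
  have hNH : ∀ h ∈ H, ∀ x ∈ N, h * x * h⁻¹ ∈ N := by
    intro h hh
    set M := N.map (MulAut.conj h).toMonoidHom with hM
    have hMP : M ≤ P := by rintro _ ⟨x, hx, rfl⟩; exact hPn h hh x (hNP hx)
    have hMn : ∀ g ∈ P, ∀ x ∈ M, g * x * g⁻¹ ∈ M := by
      rintro g hg _ ⟨x, hx, rfl⟩
      have hg' := hPn h⁻¹ (inv_mem hh) g hg
      rw [inv_inv] at hg'
      refine ⟨(h⁻¹ * g * h) * x * (h⁻¹ * g * h)⁻¹, hNn _ hg' x hx, ?_⟩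
      simp only [MulEquiv.coe_toMonoidHom, MulAut.conj_apply]
      group
    have hcard : Nat.card M = Nat.card N := (Nat.card_congr (N.equivMapOfInjective _ (MulAut.conj h).injective).toEquiv).symm
    by_cases hI : N ⊓ M ≤ Sc
    · exfalso
      have habsN := hsub N hNP hNn hNsc
      have hMsc : M ≤ Sc := fun y hy => TwoPrimeDim.mem_scalars_of_commute h8 habsN
        (TwoPrimeDim.commute_of_perfect hNperf fun x hx => hI ⟨by
          exact N.mul_mem (hNn y (hMP hy) x hx) (N.inv_mem hx), by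
          have := hMn x (hNP hx) y⁻¹ (inv_mem hy)
          simpa [mul_assoc] using M.mul_mem hy this⟩)
      refine hNsc fun x hx => ?_
      have h2 : h * x * h⁻¹ ∈ Sc := hMsc ⟨x, hx, rfl⟩
      obtain ⟨c, hc⟩ := (mem_scalars_iff _).mp h2
      refine (mem_scalars_iff _).mpr ⟨c, ?_⟩
      calc ((x : GL (Fin 8) F) : Matrix (Fin 8) (Fin 8) F)
          = ((h⁻¹ * (h * x * h⁻¹) * h : GL (Fin 8) F) : Matrix (Fin 8) (Fin 8) F) := by congr 1; group
        _ = _ := by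
          rw [Units.val_mul, Units.val_mul, hc]
          simp
    · have h1 : N ⊓ M = N := Subgroup.eq_of_le_of_card_ge inf_le_left (hNmin _ ⟨inf_le_left.trans hNP,
        fun g hg x hx => ⟨hNn g hg x hx.1, hMn g hg x hx.2⟩, hI⟩)
      have h2 : N = M := Subgroup.eq_of_le_of_card_ge (h1.ge.trans inf_le_right) hcard.le
      intro x hx
      rw [h2]
      exact ⟨x, hx, rfl⟩
  have hNeq : N = P := hmin N hNP hNH hNsc
  subst hNeq
  refine ⟨hperf, ?_, ?_, fun h hh hc => TwoPrimeDim.mem_scalars_of_commute h8 habs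
    (TwoPrimeDim.commute_of_perfect hperf hc)⟩
  · haveI : Nontrivial (N ⧸ Sc.subgroupOf N) :=
      QuotientGroup.nontrivial_iff.2 fun hc => hPsc (Subgroup.subgroupOf_eq_top.1 hc)
    refine IsSimpleGroup.mk fun U hU => ?_
    set V : Subgroup (GL (Fin 8) F) := (U.comap (QuotientGroup.mk' (Sc.subgroupOf N))).map N.subtype with hV
    have hUn : (U.comap (QuotientGroup.mk' (Sc.subgroupOf N))).Normal := hU.comap _
    have hVn : ∀ g ∈ N, ∀ x ∈ V, g * x * g⁻¹ ∈ V := by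
      intro g hg x hx
      obtain ⟨y, hy, rfl⟩ := Subgroup.mem_map.1 hx
      refine Subgroup.mem_map.2 ⟨(⟨g, hg⟩ : N) * y * (⟨g, hg⟩ : N)⁻¹, hUn.conj_mem y hy (⟨g, hg⟩ : N), ?_⟩
      simp only [map_mul, map_inv, Subgroup.coe_subtype]
    by_cases hVs : V ≤ Sc
    · left
      rw [eq_bot_iff]
      intro u hu
      obtain ⟨x, rfl⟩ := QuotientGroup.mk'_surjective _ u
      exact (QuotientGroup.eq_one_iff _).2 (Subgroup.mem_subgroupOf.2 (hVs ⟨x, hu, rfl⟩))
    · right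
      have hVN : V = N := Subgroup.eq_of_le_of_card_ge (Subgroup.map_subtype_le _)
        (hNmin V ⟨Subgroup.map_subtype_le _, hVn, hVs⟩)
      rw [eq_top_iff]
      intro u _
      obtain ⟨x, rfl⟩ := QuotientGroup.mk'_surjective _ u
      obtain ⟨y, hy, hyx⟩ := (hVN.symm ▸ x.2 : (x : GL (Fin 8) F) ∈ V)
      rwa [show y = x from Subtype.ext hyx] at hy
  · intro hc
    refine hnabs N le_rfl habs (Subgroup.commutator_le.2 fun a ha b hb => ?_)
    have := hc.is_comm.comm (QuotientGroup.mk' (Sc.subgroupOf N) ⟨a, ha⟩) (QuotientGroup.mk' _ ⟨b, hb⟩)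
    rw [← commutatorElement_eq_one_iff_mul_comm, ← map_commutatorElement, QuotientGroup.mk'_apply,
      QuotientGroup.eq_one_iff] at this
    exact Subgroup.mem_subgroupOf.1 this

end Cfsg.Agent.Lib.MinusEight
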