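import Cfsg.Agent.Lib.MinusEight.Defs

/-!
helper7: the group `Ω₈⁻(q)` lies neither in the normaliser of a quadratic field of matrices nor in a subfield group
(any characteristic).
-/

set_option autoImplicit false
set_option linter.unusedSectionVars false

namespace Cfsg.Agent.Lib.MinusEight

open Matrix Cfsg.Agent.Lib.MaxSub
open QuadraticMap (polarBilin)
open Cfsg.Agent.Lib.Geometry (quad_polar_comm quad_smul)
open scoped MatrixGroups Matrix

attribute [-simp] QuadraticMap.polarBilin_apply_apply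

variable {F : Type*} [Field F] [Fintype F] {Q : QuadraticForm F (Fin 8 → F)}

/-- An element of the field commutes with every singular root element of a normalised quadratic field. -/
theorem root_commute (hQ : Minus Q) {K : Subalgebra F (Matrix (Fin 8) (Fin 8) F)}
    (hK : Cfsg.Geo.IsFieldSubalgebra 2 K) (hle : Cfsg.Geo.omegaGL ⇑Q ≤ Cfsg.Geo.subalgebraNormalizer K)
    {u x : Fin 8 → F} (hu : Q u = 0) (hx : polarBilin Q u x = 0) (hxq : Q x = 0)
    {k : Matrix (Fin 8) (Fin 8) F} (hk : k ∈ K) (w : Fin 8 → F) :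
    k *ᵥ (polarBilin Q w u • x - polarBilin Q w x • u) =
      polarBilin Q (k *ᵥ w) u • x - polarBilin Q (k *ᵥ w) x • u := by
  have hn : 7 ≤ Fintype.card (Fin 8) := by rw [Fintype.card_fin]; norm_num
  set g := Orth.eichGL Q u x hu hx with hg
  have hgv : ∀ y, (g : Matrix (Fin 8) (Fin 8) F) *ᵥ y =
      y + (polarBilin Q y u • x - polarBilin Q y x • u) := by
    intro y
    rw [hg, Orth.eichGL_mulVec, hxq, zero_mul, add_zero, add_sub_assoc]
  have hk' : (g : Matrix (Fin 8) (Fin 8) F) * k * ((g⁻¹ : GL (Fin 8) F) : Matrix (Fin 8) (Fin 8) F) ∈ K :=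
    (hle (Orth.eichGL_mem_omega hQ.nd hn hu hx) k).mp hk
  set k' := (g : Matrix (Fin 8) (Fin 8) F) * k * ((g⁻¹ : GL (Fin 8) F) : Matrix (Fin 8) (Fin 8) F)
  have heq : (g : Matrix (Fin 8) (Fin 8) F) * k = k' * (g : Matrix (Fin 8) (Fin 8) F) := by
    simp only [k', mul_assoc, ← Units.val_mul, inv_mul_cancel, Units.val_one, mul_one]
  have happ : ∀ y, k *ᵥ y + (polarBilin Q (k *ᵥ y) u • x - polarBilin Q (k *ᵥ y) x • u) =
      k' *ᵥ y + k' *ᵥ (polarBilin Q y u • x - polarBilin Q y x • u) := by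
    intro y
    have := congrArg (fun A => A *ᵥ y) heq
    simp only [← Matrix.mulVec_mulVec, hgv, Matrix.mulVec_add] at this
    exact this
  have hkk : k' = k := by
    by_contra hne
    obtain ⟨y, -, hy⟩ := hK.inv _ (K.sub_mem hk' hk) (sub_ne_zero.mpr hne)
    let ψ : (Fin 8 → F) →ₗ[F] (Fin 4 → F) :=
      LinearMap.pi ![(polarBilin Q).flip u, (polarBilin Q).flip x,
        ((polarBilin Q).flip u).comp (Matrix.toLin' k), ((polarBilin Q).flip x).comp (Matrix.toLin' k)]
    obtain ⟨z, hz, hz0⟩ := (Submodule.ne_bot_iff (LinearMap.ker ψ)).mp fun hb => by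
      have h1 := ψ.finrank_range_add_finrank_ker
      have h2 := Submodule.finrank_le (LinearMap.range ψ)
      rw [hb, finrank_bot, Module.finrank_fintype_fun_eq_card] at h1
      rw [Module.finrank_fintype_fun_eq_card] at h2
      simp only [Fintype.card_fin] at h1 h2
      omega
    have h0 := congrFun (LinearMap.mem_ker.mp hz)
    have e0 : polarBilin Q z u = 0 := by simpa [ψ] using h0 0
    have e1 : polarBilin Q z x = 0 := by simpa [ψ] using h0 1
    have e2 : polarBilin Q (k *ᵥ z) u = 0 := by simpa [ψ, Matrix.toLin'_apply] using h0 2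
    have e3 : polarBilin Q (k *ᵥ z) x = 0 := by simpa [ψ, Matrix.toLin'_apply] using h0 3
    have h1 := happ z
    rw [e0, e1, e2, e3] at h1
    simp only [zero_smul, sub_zero, add_zero, Matrix.mulVec_zero] at h1
    have hd : (k' - k) *ᵥ z = 0 := by rw [Matrix.sub_mulVec, h1, sub_self]
    have hinv : y * (k' - k) = 1 := mul_eq_one_comm.mp hy
    refine hz0 ?_
    have := congrArg (fun A => A *ᵥ z) hinv
    simpa [← Matrix.mulVec_mulVec, hd] using this.symm
  have := happ w
  rw [hkk] at this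
  exact (add_left_cancel this).symm

/-- `Ω₈⁻` normalises no quadratic field of matrices. -/
theorem not_le_subalgebraNormalizer (hQ : Minus Q) {K : Subalgebra F (Matrix (Fin 8) (Fin 8) F)}
    (hK : Cfsg.Geo.IsFieldSubalgebra 2 K) : ¬ Cfsg.Geo.omegaGL ⇑Q ≤ Cfsg.Geo.subalgebraNormalizer K := by
  intro hle
  have hn : 7 ≤ Fintype.card (Fin 8) := by rw [Fintype.card_fin]; norm_num
  obtain ⟨e, f, e₂, f₂, e₃, f₃, h⟩ := Orth.exists_hypThree hQ.nd hn
  have he₃0 : e₃ ≠ 0 := fun h0 => by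
    have := h.two'.ef₂
    rw [h0, map_zero, LinearMap.zero_apply] at this
    exact zero_ne_one this
  have hscal : ∀ k ∈ K, ∃ c : F, k = c • (1 : Matrix (Fin 8) (Fin 8) F) := by
    intro k hk
    -- `k` maps `e₃` into two planes meeting in a line
    have h1 := root_commute hQ hK hle h.two'.qe h.two'.ee₂ h.two'.qe₂ hk f
    rw [quad_polar_comm Q f e, h.two'.ef, h.two'.fe₂, one_smul, zero_smul, sub_zero] at h1
    have h2 := root_commute hQ hK hle h.two''.qe h.two''.ee₂ h.two''.qe₂ hk f₂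
    rw [quad_polar_comm Q f₂ e₂, h.two''.ef, h.two''.fe₂, one_smul, zero_smul, sub_zero] at h2
    have h3 := congrArg (fun z => polarBilin Q z f) (h1.symm.trans h2)
    simp only [map_sub, map_smul, LinearMap.sub_apply, LinearMap.smul_apply, smul_eq_mul] at h3
    have b1 : polarBilin Q e₃ f = 0 := by rw [quad_polar_comm]; exact h.two'.fe₂
    have b2 : polarBilin Q e₂ f = 0 := by rw [quad_polar_comm]; exact h.two.fe₂
    rw [b1, b2, h.two'.ef] at h3
    simp only [mul_zero, mul_one, zero_sub, sub_zero, neg_eq_zero] at h3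
    rw [h3, zero_smul, sub_zero] at h1
    refine ⟨polarBilin Q (k *ᵥ f) e, ?_⟩
    by_contra hne
    obtain ⟨y, -, hy⟩ := hK.inv _ (K.sub_mem hk (K.smul_mem K.one_mem (polarBilin Q (k *ᵥ f) e)))
      (sub_ne_zero.mpr hne)
    have hinv : y * (k - polarBilin Q (k *ᵥ f) e • 1) = 1 := mul_eq_one_comm.mp hy
    have hd : (k - polarBilin Q (k *ᵥ f) e • 1) *ᵥ e₃ = 0 := by
      rw [Matrix.sub_mulVec, Matrix.smul_mulVec, Matrix.one_mulVec, h1, sub_self]
    have := congrArg (fun A => A *ᵥ e₃) hinv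
    simp only [← Matrix.mulVec_mulVec, hd, Matrix.mulVec_zero, Matrix.one_mulVec] at this
    exact he₃0 this.symm
  have hle1 : Subalgebra.toSubmodule K ≤ Submodule.span F {(1 : Matrix (Fin 8) (Fin 8) F)} := fun k hk => by
    obtain ⟨c, rfl⟩ := hscal k hk
    exact Submodule.smul_mem _ _ (Submodule.mem_span_singleton_self _)
  have h2 := Submodule.finrank_mono hle1
  rw [finrank_span_singleton one_ne_zero] at h2
  have h3 : Module.finrank F (Subalgebra.toSubmodule K) = 2 := hK.finrank_eq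
  omega

/-- `Ω₈⁻` lies in no subfield group. -/
theorem not_le_subfieldSubgroup (hQ : Minus Q) {F₀ : Subfield F} (hF₀ : F₀ ≠ ⊤) (P : GL (Fin 8) F) :
    ¬ Cfsg.Geo.omegaGL ⇑Q ≤ Cfsg.Geo.subfieldSubgroup F₀ P := by
  intro h
  have hn : 7 ≤ Fintype.card (Fin 8) := by rw [Fintype.card_fin]; norm_num
  have hent : ∀ u x (hu : Q u = 0) (hx : polarBilin Q u x = 0) (i j : Fin 8),
      ((P⁻¹ * Orth.eichGL Q u x hu hx * P : GL (Fin 8) F) : Matrix (Fin 8) (Fin 8) F) i j ∈ F₀ := by
    intro u x hu hx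
    obtain ⟨c, a, hca⟩ := PrimeDim.OrthProper.exists_of_mem_subfieldSubgroup
      (h (Orth.eichGL_mem_omega hQ.nd hn hu hx))
    set g := Orth.eichGL Q u x hu hx with hg
    have hgq : g ^ Fintype.card F = 1 := by
      refine Units.ext (Matrix.ext_of_mulVec_single fun j => ?_)
      rw [hg, PrimeDim.OrthProper.eichGL_pow, Orth.eichGL_mulVec, Units.val_one, Matrix.one_mulVec,
        FiniteField.cast_card_eq_zero]
      simp
    have hconj : (P⁻¹ * g * P) ^ Fintype.card F = 1 := by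
      rw [show P⁻¹ * g * P = MulAut.conj P⁻¹ g by simp, ← map_pow, hgq, map_one]
    have h1 := congrArg Units.val hconj
    rw [Units.val_pow_eq_pow_val, hca, smul_pow, FiniteField.pow_card, ← RingHom.mapMatrix_apply,
      ← map_pow, RingHom.mapMatrix_apply, Units.val_one] at h1
    have h3 := congrFun (congrFun h1 0) 0
    rw [Matrix.smul_apply, Matrix.map_apply, Matrix.one_apply_eq, smul_eq_mul] at h3
    have hc : (c : F) ∈ F₀ := by
      rw [eq_inv_of_mul_eq_one_left h3]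
      exact F₀.inv_mem (SetLike.coe_mem _)
    intro i j
    rw [hca, Matrix.smul_apply, Matrix.map_apply]
    exact F₀.mul_mem hc (SetLike.coe_mem _)
  obtain ⟨e, f, e₂, f₂, e₃, f₃, hh⟩ := Orth.exists_hypThree hQ.nd hn
  let A : (Fin 8 → F) →ₗ[F] (Fin 8 → F) :=
    ((polarBilin Q).flip e).smulRight e₂ - ((polarBilin Q).flip e₂).smulRight e
  have hA : ∀ y, A y = polarBilin Q y e • e₂ - polarBilin Q y e₂ • e := fun y => rfl
  obtain ⟨j, hj⟩ : ∃ j, A ((P : Matrix (Fin 8) (Fin 8) F) *ᵥ Pi.single j 1) ≠ 0 := by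
    by_contra hc
    push Not at hc
    have h0 : A.comp (Matrix.toLin' (P : Matrix (Fin 8) (Fin 8) F)) = 0 :=
      LinearMap.pi_ext' fun j => LinearMap.ext_ring (by simpa using hc j)
    have h1 := LinearMap.congr_fun h0 (((P⁻¹ : GL (Fin 8) F) : Matrix (Fin 8) (Fin 8) F) *ᵥ f)
    rw [LinearMap.comp_apply, Matrix.toLin'_apply, Matrix.mulVec_mulVec, ← Units.val_mul, mul_inv_cancel,
      Units.val_one, Matrix.one_mulVec, hA, quad_polar_comm Q f e, hh.two.ef, hh.two.fe₂, one_smul, zero_smul,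
      sub_zero, LinearMap.zero_apply] at h1
    have h2 := hh.two.ef₂
    rw [h1, map_zero, LinearMap.zero_apply] at h2
    exact zero_ne_one h2
  obtain ⟨i, hi⟩ := Function.ne_iff.mp (show ((P⁻¹ : GL (Fin 8) F) : Matrix (Fin 8) (Fin 8) F) *ᵥ
      A ((P : Matrix (Fin 8) (Fin 8) F) *ᵥ Pi.single j 1) ≠ 0 from fun h0 => hj (by
    have := congrArg ((P : Matrix (Fin 8) (Fin 8) F) *ᵥ ·) h0
    simpa [Matrix.mulVec_mulVec, ← Units.val_mul] using this))
  rw [Pi.zero_apply] at hi
  have key : ∀ t : F, t * (((P⁻¹ : GL (Fin 8) F) : Matrix (Fin 8) (Fin 8) F) *ᵥ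
      A ((P : Matrix (Fin 8) (Fin 8) F) *ᵥ Pi.single j 1)) i ∈ F₀ := by
    intro t
    have h1 := hent e (t • e₂) hh.two.qe (by rw [map_smul, hh.two.ee₂, smul_zero]) i j
    have h3 := hent e ((0 : F) • e₂) hh.two.qe (by rw [map_smul, hh.two.ee₂, smul_zero]) i j
    have hcol : ∀ g : GL (Fin 8) F, ((P⁻¹ * g * P : GL (Fin 8) F) : Matrix (Fin 8) (Fin 8) F) i j =
        (((P⁻¹ : GL (Fin 8) F) : Matrix (Fin 8) (Fin 8) F) *ᵥ ((g : Matrix (Fin 8) (Fin 8) F) *ᵥ
          ((P : Matrix (Fin 8) (Fin 8) F) *ᵥ Pi.single j 1))) i := by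
      intro g
      rw [Matrix.mulVec_mulVec, Matrix.mulVec_mulVec, Matrix.mulVec_single_one, Units.val_mul, Units.val_mul]
      rfl
    rw [hcol] at h1 h3
    have h4 := F₀.sub_mem h1 h3
    rw [← Pi.sub_apply, ← Matrix.mulVec_sub] at h4
    convert h4 using 1
    rw [← smul_eq_mul, ← Pi.smul_apply, ← Matrix.mulVec_smul]
    congr 2
    rw [Orth.eichGL_mulVec, Orth.eichGL_mulVec, hA]
    simp only [map_smul, quad_smul, hh.two.qe₂, smul_eq_mul]
    module
  refine hF₀ (eq_top_iff.mpr fun y _ => ?_)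
  have := key (y * ((((P⁻¹ : GL (Fin 8) F) : Matrix (Fin 8) (Fin 8) F) *ᵥ
      A ((P : Matrix (Fin 8) (Fin 8) F) *ᵥ Pi.single j 1)) i)⁻¹)
  rwa [mul_assoc, inv_mul_cancel₀ hi, mul_one] at this

end Cfsg.Agent.Lib.MinusEight
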