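import Cfsg.Agent.Lib.MinusEight.Defs
import Cfsg.Agent.Lib.MinusEight.Proper
import Cfsg.Agent.Lib.PrimeDim.OrthCases
import Mathlib.FieldTheory.Finite.Extension

/-!
The residual step in `Ω₈⁻(q)`: a perfect absolutely irreducible normal subgroup gives a subfield group of odd index
or the residual class; index two is impossible because a form over a subfield of index two has plus type above it.
-/

set_option autoImplicit false
set_option linter.unusedSectionVars false
set_option linter.style.haveILetI false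

namespace Cfsg.Agent.Lib.MinusEight

open Matrix Module Cfsg.Geo
open Cfsg.Agent.Lib
open Cfsg.Agent.Lib.MaxSub
open QuadraticMap (polarBilin)
open scoped MatrixGroups Matrix

attribute [-simp] QuadraticMap.polarBilin_apply_apply

variable {F : Type*} [Field F] [Fintype F] {Q : QuadraticForm F (Fin 8 → F)}

local notation "VV" => (Fin 8 → F)
local notation "MM" => Matrix (Fin 8) (Fin 8) F

/-- inclusion of rational coordinate vectors -/
def incl (F₁ : Subfield F) : (Fin 8 → F₁) →ₗ[F₁] VV where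
  toFun u i := u i
  map_add' _ _ := rfl
  map_smul' _ _ := rfl

/-- independence is kept by extending the field -/
theorem li_incl (F₁ : Subfield F) {κ : Type*} [Fintype κ] {w : κ → Fin 8 → F₁} (hw : LinearIndependent F₁ w) :
    LinearIndependent F fun k => incl F₁ (w k) := by
  classical
  obtain ⟨φ, hφ1, hφm, hφ⟩ := PrimeDim.FormDescent.exists_functional F₁ (one_ne_zero (α := F))
  refine Fintype.linearIndependent_iff.2 fun g hg k => ?_
  by_contra hk
  let c : κ → F₁ := fun j => ⟨φ ((g k)⁻¹ * g j), hφm _⟩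
  have h0 : ∑ j, c j • w j = 0 := by
    funext i
    refine Subtype.ext ?_
    have h1 : ∑ j, g j * (w j i : F) = 0 := by
      have := congrFun hg i
      simpa [incl, Finset.sum_apply] using this
    rw [Finset.sum_apply, AddSubmonoidClass.coe_finsetSum]
    show ∑ j, φ ((g k)⁻¹ * g j) * (w j i : F) = ((0 : F₁) : F)
    rw [Finset.sum_congr rfl fun j _ => (hφ _ _ (w j i).2).symm, ← map_sum,
      show ∑ j, (g k)⁻¹ * g j * (w j i : F) = (g k)⁻¹ * ∑ j, g j * (w j i : F) by
        rw [Finset.mul_sum]; simp only [mul_assoc],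
      h1, mul_zero, map_zero]
    rfl
  have h2 := Fintype.linearIndependent_iff.1 hw c h0 k
  have h3 : φ ((g k)⁻¹ * g k) = 0 := congrArg Subtype.val h2
  rw [inv_mul_cancel₀ hk, hφ1] at h3
  exact one_ne_zero h3

omit [Fintype F] in
/-- a vector with rational coordinates is an included vector -/
theorem rat_incl (F₁ : Subfield F) (u : Fin 8 → F₁) : ∀ i, incl F₁ u i ∈ F₁ := fun i => (u i).2

/-- the form is rational on a rational basis of an absolutely irreducible group fixing it -/
theorem exists_rat_structure (hQ : Minus Q) {P : Subgroup (GL (Fin 8) F)}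
    (habs : ActsAbsolutelyIrreducibly (matrixSet P)) (hfix : FixesQuadForm (matrixSet P) ⇑Q)
    (hP1 : P ≠ ⊥) {F₁ : Subfield F} (hreal : RealisableOver F₁ (matrixSet P)) :
    ∃ (B : GL (Fin 8) F) (ζ : F), ζ ≠ 0 ∧ IsQuadFormRationalStructure (fun v : VV => ζ * Q v) F₁ B ∧
      (∀ u v : VV, (∀ i, u i ∈ F₁) → (∀ i, v i ∈ F₁) →
        ζ * QuadraticMap.polar ⇑Q ((B : MM) *ᵥ u) ((B : MM) *ᵥ v) ∈ F₁) ∧
      ∀ h : GL (Fin 8) F, (∀ x ∈ P, h * x * h⁻¹ ∈ P) → h ∈ subfieldSubgroup F₁ B := by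
  classical
  have hNQ := PrimeDim.OrthCases.nondegenerateForm hQ.nd
  have hb := hNQ.polar_bilinear
  set f := QuadraticMap.polar ⇑Q with hf
  have hfixf : FixesForm (matrixSet P) f := fun s hs u v => by
    simp only [hf, QuadraticMap.polar, ← Matrix.mulVec_add, hfix s hs]
  have hmv : ∀ (M : MM) (v : VV), (∀ i j, M i j ∈ F₁) → (∀ i, v i ∈ F₁) → ∀ i, (M *ᵥ v) i ∈ F₁ := by
    intro M v hM hv i
    show ∑ j, M i j * v j ∈ F₁
    exact F₁.sum_mem fun j _ => F₁.mul_mem (hM i j) (hv j)
  obtain ⟨B, hB⟩ := hreal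
  have hB' : ∀ p ∈ P, PrimeDim.FormDescent.Rat0 F₁
      ((B : MM) * (p : MM) * ((B⁻¹ : GL (Fin 8) F) : MM)) := fun p hp => hB _ ⟨p, hp, rfl⟩
  have hform := PrimeDim.FormDescent.form_eq (RingHom.id F) f hb.add_left hb.smul_left hb.add_right hb.smul_right
  obtain ⟨c, hc, hcr⟩ := PrimeDim.FormDescent.exists_smul_gram P (RingHom.id F) (fun a ha => ha) habs hB'
    (PrimeDim.FormDescent.gram_isUnit _ f hform hNQ.nondegenerate)
    (PrimeDim.FormDescent.fixes_gram _ f hform hfixf)
  set b' : MM := ((B⁻¹ : GL (Fin 8) F) : MM) with hb'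
  have hpol : ∀ u v : VV, (∀ i, u i ∈ F₁) → (∀ i, v i ∈ F₁) → c * f (b' *ᵥ u) (b' *ᵥ v) ∈ F₁ := by
    intro u v hu hv
    rw [PrimeDim.FormDescent.gram_congr (RingHom.id F) f hform]
    have e : c * (u ⬝ᵥ (b'ᵀ * gramMatrix f * b'.map (RingHom.id F)) *ᵥ ((RingHom.id F) ∘ v)) =
        u ⬝ᵥ (c • (b'ᵀ * gramMatrix f * b'.map (RingHom.id F))) *ᵥ v := by
      rw [Matrix.smul_mulVec, dotProduct_smul, smul_eq_mul]; rfl
    rw [e]
    exact F₁.sum_mem fun i _ => F₁.mul_mem (hu i) (hmv _ _ hcr hv i)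
  -- the rational vectors on which the form is rational
  let R : VV → F := fun u => c * Q (b' *ᵥ u)
  have hadd : ∀ u v : VV, R (u + v) = R u + R v + c * f (b' *ᵥ u) (b' *ᵥ v) := fun u v => by
    simp only [R, hf, QuadraticMap.polar, Matrix.mulVec_add]; ring
  have hsmul : ∀ (a : F) (u : VV), R (a • u) = a * a * R u := fun a u => by
    simp only [R, Matrix.mulVec_smul, QuadraticMap.map_smul, smul_eq_mul]; ring
  let S : Set VV := {u | (∀ i, u i ∈ F₁) ∧ R u ∈ F₁}
  have hS0 : (0 : VV) ∈ S := ⟨fun i => F₁.zero_mem, by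
    rw [← zero_smul F (0 : VV), hsmul, mul_zero, zero_mul]; exact F₁.zero_mem⟩
  have hSadd : ∀ u ∈ S, ∀ v ∈ S, u + v ∈ S := fun u hu v hv => ⟨fun i => F₁.add_mem (hu.1 i) (hv.1 i), by
    rw [hadd]; exact F₁.add_mem (F₁.add_mem hu.2 hv.2) (hpol u v hu.1 hv.1)⟩
  have hSsmul : ∀ a ∈ F₁, ∀ u ∈ S, a • u ∈ S := fun a ha u hu => ⟨fun i => F₁.mul_mem ha (hu.1 i), by
    rw [hsmul]; exact F₁.mul_mem (F₁.mul_mem ha ha) hu.2⟩
  let A : GL (Fin 8) F → MM := fun p => (B : MM) * (p : MM) * b'
  have hAb : ∀ (p : GL (Fin 8) F) (u : VV), b' *ᵥ (A p *ᵥ u) = (p : MM) *ᵥ (b' *ᵥ u) := fun p u => by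
    simp only [A, hb', Matrix.mulVec_mulVec, mul_assoc, Units.inv_mul_cancel_left]
  have hAR : ∀ p ∈ P, ∀ u : VV, (∀ i, u i ∈ F₁) → ∀ i, (A p *ᵥ u) i ∈ F₁ := fun p hp u hu =>
    hmv _ _ (hB' p hp) hu
  have hRA : ∀ p ∈ P, ∀ u, R (A p *ᵥ u) = R u := fun p hp u => by
    simp only [R, hAb, hfix _ ⟨p, hp, rfl⟩]
  have hSA : ∀ p ∈ P, ∀ u ∈ S, A p *ᵥ u ∈ S := fun p hp u hu =>
    ⟨hAR p hp u hu.1, by rw [hRA p hp]; exact hu.2⟩
  -- a non-zero vector of that kind
  obtain ⟨w, hwS, hw0⟩ : ∃ w ∈ S, w ≠ 0 := by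
    obtain ⟨p, hp, hp1⟩ := (Subgroup.bot_or_exists_ne_one P).resolve_left hP1
    obtain ⟨i, hi⟩ : ∃ i, A p *ᵥ Pi.single i 1 - Pi.single i 1 ≠ 0 := by
      by_contra hcon
      push Not at hcon
      refine hp1 (Units.ext ?_)
      have hA1 : A p = 1 := Matrix.ext_of_mulVec_single fun i => by
        rw [Matrix.one_mulVec]; exact sub_eq_zero.1 (hcon i)
      calc (p : MM) = b' * A p * (B : MM) := by
            simp only [A, hb', mul_assoc, Units.inv_mul_cancel_left, Units.inv_mul, mul_one]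
        _ = _ := by rw [hA1, mul_one, hb', Units.inv_mul, Units.val_one]
    have he : ∀ k, (Pi.single i (1 : F) : VV) k ∈ F₁ := fun k => by
      by_cases hk : k = i
      · subst hk; rw [Pi.single_eq_same]; exact F₁.one_mem
      · rw [Pi.single_eq_of_ne hk]; exact F₁.zero_mem
    refine ⟨A p *ᵥ Pi.single i 1 - Pi.single i 1, ⟨fun k => F₁.sub_mem (hAR p hp _ he k) (he k), ?_⟩, hi⟩
    set u : VV := Pi.single i 1
    set v : VV := A p *ᵥ u
    have h1 : R u + R u + c * f (b' *ᵥ u) (b' *ᵥ u) = (1 + 1) * (1 + 1) * R u := by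
      rw [← hadd, ← one_smul F u, ← add_smul, one_smul, hsmul]
    have h2 : R (v - u) = c * f (b' *ᵥ u) (b' *ᵥ u) - c * f (b' *ᵥ v) (b' *ᵥ u) := by
      have h3 := hadd v ((-1 : F) • u)
      rw [hsmul, Matrix.mulVec_smul, hb.smul_right, hRA p hp u, neg_one_smul, ← sub_eq_add_neg] at h3
      linear_combination h3 - h1
    rw [h2]
    exact F₁.sub_mem (hpol _ _ he he) (hpol _ _ (hAR p hp _ he) he)
  have hspan : Submodule.span F S = ⊤ := by
    let W := Submodule.span F S
    have hW : ∀ p ∈ P, ∀ x ∈ W, A p *ᵥ x ∈ W := fun p hp x hx => by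
      have hle : W.map (Matrix.toLin' (A p)) ≤ W := by
        rw [Submodule.map_span, Submodule.span_le]
        rintro _ ⟨u, hu, rfl⟩
        exact Submodule.subset_span (by rw [Matrix.toLin'_apply]; exact hSA p hp u hu)
      exact hle ⟨x, hx, Matrix.toLin'_apply _ _⟩
    rcases habs.1 (W.map (Matrix.toLin' b')) (by
      rintro _ ⟨p, hp, rfl⟩ _ ⟨_, ⟨x, hx, rfl⟩, rfl⟩
      refine ⟨A p *ᵥ x, hW p hp x hx, ?_⟩
      rw [Matrix.toLin'_apply, Matrix.toLin'_apply, Matrix.toLin'_apply, hAb]) with h | h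
    · exfalso
      have h1 : b' *ᵥ w = 0 := (Submodule.mem_bot F).1 (h ▸ ⟨w, Submodule.subset_span hwS, Matrix.toLin'_apply _ _⟩)
      have h2 := congrArg ((B : MM) *ᵥ ·) h1
      simp only [hb', Matrix.mulVec_mulVec, Units.mul_inv, Matrix.one_mulVec, Matrix.mulVec_zero] at h2
      exact hw0 h2
    · refine eq_top_iff.2 fun x _ => ?_
      obtain ⟨y, hy, e⟩ := (eq_top_iff.1 h (Submodule.mem_top (x := b' *ᵥ x)))
      rw [Matrix.toLin'_apply] at e
      exact Matrix.mulVec_injective_iff_isUnit.2 (B⁻¹).isUnit e ▸ hy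
  obtain ⟨φ, hφ1, hφm, hφ⟩ := PrimeDim.FormDescent.exists_functional F₁ (one_ne_zero (α := F))
  have hall : ∀ x ∈ Submodule.span F S, ∀ a : F, (fun i => φ (a * x i)) ∈ S := by
    intro x hx
    induction hx using Submodule.span_induction with
    | mem v hv =>
      intro a
      have he : (fun i => φ (a * v i)) = φ a • v := funext fun i => hφ _ _ (hv.1 i)
      rw [he]
      exact hSsmul _ (hφm a) v hv
    | zero =>
      intro a
      have he : (fun i => φ (a * (0 : VV) i)) = 0 := funext fun i => by simp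
      rw [he]; exact hS0
    | add y z _ _ hy hz =>
      intro a
      have he : (fun i => φ (a * (y + z) i)) = (fun i => φ (a * y i)) + fun i => φ (a * z i) :=
        funext fun i => by simp [mul_add]
      rw [he]; exact hSadd _ (hy a) _ (hz a)
    | smul b y _ hy =>
      intro a
      have he : (fun i => φ (a * (b • y) i)) = fun i => φ (a * b * y i) := funext fun i => by simp [mul_assoc]
      rw [he]; exact hy (a * b)
  refine ⟨B⁻¹, c, hc, fun u hu => ?_, hpol, fun h hn =>
    PrimeDim.FormDescent.mem_subfieldSubgroup_of_normalises P habs hB' hn⟩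
  have h1 := hall u (hspan ▸ Submodule.mem_top) 1
  have he : (fun i => φ (1 * u i)) = u := funext fun i => by rw [hφ (u i) 1 (hu i), hφ1, one_mul]
  rw [he] at h1
  exact h1.2

/-- index two gives plus type -/
theorem index_two_false (hQ : Minus Q) {F₁ : Subfield F} (hcard : Nat.card F = Nat.card F₁ ^ 2) {B : GL (Fin 8) F}
    {ζ : F} (hζ : ζ ≠ 0) (hB : IsQuadFormRationalStructure (fun v : VV => ζ * Q v) F₁ B)
    (hpol : ∀ u v : VV, (∀ i, u i ∈ F₁) → (∀ i, v i ∈ F₁) →
      ζ * QuadraticMap.polar ⇑Q ((B : MM) *ᵥ u) ((B : MM) *ᵥ v) ∈ F₁) : False := by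
  classical
  haveI : Fintype F₁ := Fintype.ofFinite F₁
  let ι' : (Fin 8 → F₁) → VV := fun u => (B : MM) *ᵥ incl F₁ u
  have hι_add : ∀ u v, ι' (u + v) = ι' u + ι' v := fun u v => by
    simp only [ι', map_add, Matrix.mulVec_add]
  let f : (Fin 8 → F₁) → F₁ := fun u => ⟨ζ * Q (ι' u), hB _ (rat_incl F₁ u)⟩
  have hfp : ∀ u v, ((QuadraticMap.polar f u v : F₁) : F) = ζ * QuadraticMap.polar ⇑Q (ι' u) (ι' v) := fun u v => by
    show (↑(f (u + v) - f u - f v) : F) = _
    simp only [f, AddSubgroupClass.coe_sub, hι_add, QuadraticMap.polar]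
    ring
  have hNQ := PrimeDim.OrthCases.nondegenerateForm hQ.nd
  have hb := hNQ.polar_bilinear
  have hι_smul : ∀ (a : F₁) u, ι' (a • u) = (a : F) • ι' u := fun a u => by
    rw [← Matrix.mulVec_smul]; rfl
  have hι0 : ∀ {u}, u ≠ 0 → ι' u ≠ 0 := fun {u} hu h => hu (funext fun i => Subtype.ext (by
    have h1 : incl F₁ u = 0 := Matrix.mulVec_injective_iff_isUnit.2 B.isUnit (h.trans (Matrix.mulVec_zero _).symm)
    exact congrFun h1 i))
  have hf : IsNondegenerateQuadraticForm f := by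
    refine ⟨fun a u => Subtype.ext ?_, ⟨fun x y v => Subtype.ext ?_, fun a x v => Subtype.ext ?_,
      fun v x y => Subtype.ext ?_, fun a v x => Subtype.ext ?_⟩, fun u hu => ?_⟩
    · simp only [f, hι_smul, QuadraticMap.map_smul, smul_eq_mul, MulMemClass.coe_mul, SubmonoidClass.coe_pow]
      ring
    · rw [Subfield.coe_add, hfp, hfp, hfp, hι_add, hb.add_left, mul_add]
    · rw [Subfield.coe_mul, hfp, hfp, hι_smul, hb.smul_left]; ring
    · rw [Subfield.coe_add, hfp, hfp, hfp, hι_add, hb.add_right, mul_add]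
    · rw [Subfield.coe_mul, hfp, hfp, hι_smul, hb.smul_right]; ring
    · obtain ⟨i, hi⟩ : ∃ i, QuadraticMap.polar ⇑Q (ι' u) (ι' (Pi.single i 1)) ≠ 0 := by
        by_contra hcon
        push Not at hcon
        refine hι0 hu (hQ.nd.1 _ fun y => ?_)
        have hy : y = ∑ i, (((B⁻¹ : GL (Fin 8) F) : MM) *ᵥ y) i • ι' (Pi.single i 1) := by
          have h1 : ∀ i, incl F₁ (Pi.single i 1) = Pi.single i 1 := fun i => funext fun k => by
            show (((Pi.single i (1 : F₁) : Fin 8 → F₁) k : F₁) : F) = _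
            by_cases hk : k = i
            · subst hk; simp
            · simp [Pi.single_eq_of_ne hk]
          simp only [ι', h1, ← Matrix.mulVec_smul, ← Matrix.mulVec_sum]
          rw [← pi_eq_sum_univ', Matrix.mulVec_mulVec, Units.mul_inv, Matrix.one_mulVec]
        rw [hy, map_sum]
        refine Finset.sum_eq_zero fun i _ => ?_
        rw [map_smul, QuadraticMap.polarBilin_apply_apply, hcon i, smul_zero]
      have hne : QuadraticMap.polar f u (Pi.single i 1) ≠ 0 := fun h => by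
        have := hfp u (Pi.single i 1)
        rw [h] at this
        exact mul_ne_zero hζ hi this.symm
      exact ⟨⟨Pi.single i 1, fun h => hne (by rwa [QuadraticMap.polar_comm] at h)⟩, _, hne⟩
  obtain ⟨Q₁, hQ₁, hQ₁nd⟩ := Orth.exists_quadraticForm hf
  have hQv : ∀ u, (Q₁ u : F) = ζ * Q (ι' u) := fun u => by rw [← hQ₁]
  -- totally singular subspaces go up
  have hup : ∀ {κ : Type} [Fintype κ] (w : κ → Fin 8 → F₁), LinearIndependent F₁ w →
      LinearIndependent F fun k => ι' (w k) := fun {κ} _ w hw =>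
    (li_incl F₁ hw).map' (Matrix.toLin' (B : MM)) (LinearMap.ker_eq_bot.2 fun x y h => by
      simp only [Matrix.toLin'_apply] at h
      exact Matrix.mulVec_injective_iff_isUnit.2 B.isUnit h)
  have hts : ∀ {κ : Type} (x : κ → VV), (∀ k, Q (x k) = 0) →
      (∀ k l, QuadraticMap.polar ⇑Q (x k) (x l) = 0) → ∀ v ∈ Submodule.span F (Set.range x), Q v = 0 := by
    intro κ x hx hxx
    have h1 : ∀ k, ∀ v ∈ Submodule.span F (Set.range x), QuadraticMap.polar ⇑Q (x k) v = 0 := fun k v hv => by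
      induction hv using Submodule.span_induction with
      | mem v hv => obtain ⟨l, rfl⟩ := hv; exact hxx k l
      | zero => simpa using hb.smul_right 0 (x k) 0
      | add y z _ _ hy hz => rw [hb.add_right, hy, hz, add_zero]
      | smul a y _ hy => rw [hb.smul_right, hy, mul_zero]
    have h2 : ∀ y ∈ Submodule.span F (Set.range x), ∀ v ∈ Submodule.span F (Set.range x),
        QuadraticMap.polar ⇑Q y v = 0 := fun y hy v hv => by
      induction hy using Submodule.span_induction with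
      | mem y hy => obtain ⟨k, rfl⟩ := hy; exact h1 k v hv
      | zero => simpa using hb.smul_left 0 0 v
      | add y z _ _ hy hz => rw [hb.add_left, hy, hz, add_zero]
      | smul a y _ hy => rw [hb.smul_left, hy, mul_zero]
    intro v hv
    induction hv using Submodule.span_induction with
    | mem v hv => obtain ⟨k, rfl⟩ := hv; exact hx k
    | zero => exact QuadraticMap.map_zero Q
    | add y z hy' hz' hy hz =>
      have := h2 y hy' z hz'
      rw [QuadraticMap.polar, hy, hz, sub_zero, sub_zero] at this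
      exact this
    | smul a y _ hy => rw [QuadraticMap.map_smul, hy, smul_zero]
  have hgen : ∀ U : Submodule F₁ (Fin 8 → F₁), (∀ u ∈ U, Q₁ u = 0) →
      ∀ u ∈ U, ∀ v ∈ U, Q (ι' u) = 0 ∧ QuadraticMap.polar ⇑Q (ι' u) (ι' v) = 0 := by
    intro U hU
    have hz : ∀ u ∈ U, Q (ι' u) = 0 := fun u hu => by
      have h := hQv u
      rw [hU u hu, ZeroMemClass.coe_zero] at h
      exact (mul_eq_zero.1 h.symm).resolve_left hζ
    exact fun u hu v hv => ⟨hz u hu, by
      rw [QuadraticMap.polar, ← hι_add, hz _ (U.add_mem hu hv), hz u hu, hz v hv, sub_zero, sub_zero]⟩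
  by_cases hplus : QuadType.Plus Q₁ ⊤
  · obtain ⟨U, -, hU, hUd⟩ := hplus
    let b := Module.finBasis F₁ U
    have hli := hup (fun k => ((b k : U) : Fin 8 → F₁)) (b.linearIndependent.map' U.subtype U.ker_subtype)
    refine hQ.no_ts_four (hts _ (fun k => (hgen U hU _ (b k).2 _ (b k).2).1)
      fun k l => (hgen U hU _ (b k).2 _ (b l).2).2) ?_
    rw [finrank_span_eq_card hli, Fintype.card_fin]
    rw [finrank_top, Module.finrank_fin_fun] at hUd
    omega
  obtain ⟨P₀, E, hPnd, ⟨U, hUP, hU, hUd⟩, hEnd, hE2, hEan, hEP, hsup, hdim⟩ :=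
    QuadAny.decomp Q₁ hQ₁nd (finrank F₁ (⊤ : Submodule F₁ (Fin 8 → F₁))) rfl (QuadType.nd_top Q₁ hQ₁nd)
      (by rw [finrank_top, Module.finrank_fin_fun]; decide) hplus
  rw [finrank_top, Module.finrank_fin_fun] at hdim
  let e := Module.finBasisOfFinrankEq F₁ E hE2
  let e₁ : Fin 8 → F₁ := (e 0 : E)
  let e₂ : Fin 8 → F₁ := (e 1 : E)
  have he₁ : e₁ ≠ 0 := fun h => e.ne_zero 0 (Subtype.ext h)
  have hb₁ : Q₁ e₁ ≠ 0 := fun h => he₁ (hEan _ (e 0).2 h)
  set a₀ : F₁ := Q₁ e₁
  set b₀ : F₁ := QuadraticMap.polar Q₁ e₁ e₂ with hb₀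
  set c₀ : F₁ := Q₁ e₂
  have hexp : ∀ r : F₁, Q₁ (r • e₁ + e₂) = r * r * a₀ + r * b₀ + c₀ := fun r => by
    have h := (QuadraticMap.polar_smul_left Q₁ r e₁ e₂)
    simp only [QuadraticMap.polar, QuadraticMap.map_smul, smul_eq_mul] at h
    rw [hb₀, QuadraticMap.polar]
    linear_combination h
  -- the quadratic has a root above
  let p : Polynomial F₁ := Polynomial.X ^ 2 + (Polynomial.C (b₀ / a₀) * Polynomial.X + Polynomial.C (c₀ / a₀))
  have hpm : p.Monic := Polynomial.monic_X_pow_add (by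
    refine lt_of_le_of_lt (Polynomial.degree_linear_le) ?_; norm_num)
  have hpd : p.natDegree = 2 := by
    simp only [p]
    compute_degree!
  have hpi : Irreducible p := by
    rw [hpm.irreducible_iff_roots_eq_zero_of_degree_le_three (by omega) (by omega),
      Multiset.eq_zero_iff_forall_notMem]
    intro r hr
    rw [Polynomial.mem_roots hpm.ne_zero] at hr
    simp only [p, Polynomial.IsRoot, Polynomial.eval_add, Polynomial.eval_pow, Polynomial.eval_X,
      Polynomial.eval_mul, Polynomial.eval_C] at hr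
    have h0 : Q₁ (r • e₁ + e₂) = 0 := by
      rw [hexp]; field_simp at hr; linear_combination hr
    have h1 := hEan _ (E.add_mem (E.smul_mem r (e 0).2) (e 1).2) h0
    have h2 : r • e 0 + e 1 = 0 := Subtype.ext h1
    have h3 := congrArg (fun z => e.repr z 1) h2
    simp at h3
  have hdvd : p ∣ Polynomial.X ^ Nat.card F₁ ^ 2 - Polynomial.X :=
    (hpi.natDegree_dvd_iff_dvd_X_pow_card_pow_sub_X (n := 2)).1 (by rw [hpd])
  obtain ⟨a, ha⟩ : ∃ a : F, (p.map F₁.subtype).eval a = 0 := by
    have hsp : (Polynomial.X ^ Nat.card F - Polynomial.X : Polynomial F).Splits := by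
      rw [Nat.card_eq_fintype_card, Polynomial.splits_iff_card_roots, FiniteField.roots_X_pow_card_sub_X,
        FiniteField.X_pow_card_sub_X_natDegree_eq F Fintype.one_lt_card]
      rfl
    have hd : p.map F₁.subtype ∣ (Polynomial.X ^ Nat.card F - Polynomial.X : Polynomial F) := by
      have h := Polynomial.map_dvd F₁.subtype hdvd
      rwa [Polynomial.map_sub, Polynomial.map_pow, Polynomial.map_X, ← hcard] at h
    refine (hsp.of_dvd (FiniteField.X_pow_card_sub_X_ne_zero F (by
      rw [Nat.card_eq_fintype_card]; exact Fintype.one_lt_card)) hd).exists_eval_eq_zero ?_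
    rw [Polynomial.degree_map, Polynomial.degree_eq_natDegree hpm.ne_zero, hpd]
    norm_num
  have hroot : a * a * (a₀ : F) + a * b₀ + c₀ = 0 := by
    simp only [p, Polynomial.map_add, Polynomial.map_pow, Polynomial.map_mul, Polynomial.map_X, Polynomial.map_C,
      Polynomial.eval_add, Polynomial.eval_pow, Polynomial.eval_mul, Polynomial.eval_X, Polynomial.eval_C,
      Subfield.coe_subtype, Subfield.coe_div] at ha
    have h0 : (a₀ : F) ≠ 0 := fun h => hb₁ (Subtype.ext h)
    field_simp at ha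
    linear_combination ha
  let b := Module.finBasis F₁ U
  let x : VV := a • ι' e₁ + ι' e₂
  have hQx : Q x = 0 := by
    have h1 : ζ * Q x = a * a * (a₀ : F) + a * b₀ + c₀ := by
      have hpb : (b₀ : F) = ζ * QuadraticMap.polar ⇑Q (ι' e₁) (ι' e₂) := by
        rw [hb₀]
        simp only [QuadraticMap.polar]
        push_cast [hQv, hι_add]
        ring
      have hs := hb.smul_left a (ι' e₁) (ι' e₂)
      simp only [QuadraticMap.polar, QuadraticMap.map_smul, smul_eq_mul] at hs
      simp only [x, a₀, c₀, hQv, hpb, QuadraticMap.polar]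
      linear_combination ζ * hs
    exact (mul_eq_zero.1 (h1.trans hroot)).resolve_left hζ
  have hperp : ∀ u ∈ U, ∀ v ∈ E, QuadraticMap.polar ⇑Q (ι' u) (ι' v) = 0 := fun u hu v hv => by
    have h := hEP hv u (hUP hu)
    rw [QuadraticMap.polarBilin_apply_apply] at h
    have h1 : ((QuadraticMap.polar Q₁ u v : F₁) : F) = ζ * QuadraticMap.polar ⇑Q (ι' u) (ι' v) := by
      rw [← hQ₁]; exact hfp u v
    rw [h, ZeroMemClass.coe_zero] at h1
    exact (mul_eq_zero.1 h1.symm).resolve_left hζ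
  let y : Option (Fin (finrank F₁ U)) → VV := fun o => o.elim x fun k => ι' (b k : U)
  have hUd3 : finrank F₁ U = 3 := by omega
  have hyQ : ∀ o, Q (y o) = 0 := fun o => by
    cases o with
    | none => exact hQx
    | some k => exact (hgen U hU _ (b k).2 _ (b k).2).1
  have hux : ∀ k, QuadraticMap.polar ⇑Q (ι' (b k : U)) x = 0 := fun k => by
    simp only [x]
    rw [hb.add_right, hb.smul_right, hperp _ (b k).2 _ (e 0).2, hperp _ (b k).2 _ (e 1).2, mul_zero, add_zero]
  have hyy : ∀ o o', QuadraticMap.polar ⇑Q (y o) (y o') = 0 := fun o o' => by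
    cases o with
    | none =>
      cases o' with
      | none =>
        show QuadraticMap.polar ⇑Q x x = 0
        rw [QuadraticMap.polar, show x + x = (2 : F) • x by rw [two_smul], QuadraticMap.map_smul, hQx]
        simp
      | some k => show QuadraticMap.polar ⇑Q x (ι' _) = 0; rw [QuadraticMap.polar_comm]; exact hux k
    | some k =>
      cases o' with
      | none => exact hux k
      | some l => exact (hgen U hU _ (b k).2 _ (b l).2).2
  have hw : LinearIndependent F₁ (Sum.elim (fun k => ((b k : U) : Fin 8 → F₁)) (fun j => ((e j : E) : Fin 8 → F₁))) := by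
    refine LinearIndependent.sum_type (b.linearIndependent.map' U.subtype U.ker_subtype)
      (e.linearIndependent.map' E.subtype E.ker_subtype) ?_
    refine Disjoint.mono (Submodule.span_le.2 (by rintro _ ⟨k, rfl⟩; exact hUP (b k).2))
      (Submodule.span_le.2 (by rintro _ ⟨j, rfl⟩; exact (e j).2)) ?_
    rw [Submodule.disjoint_def]
    intro z hzP hzE
    by_contra hz
    obtain ⟨t, ht, htz⟩ := hPnd z hzP hz
    have h := hEP hzE t ht
    rw [QuadraticMap.polarBilin_apply_apply] at h htz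
    exact htz (by rw [QuadraticMap.polar_comm]; exact h)
  have hliy : LinearIndependent F y := by
    refine Fintype.linearIndependent_iff.2 fun g hg => ?_
    let g' : Fin (finrank F₁ U) ⊕ Fin 2 → F := Sum.elim (fun k => g (some k)) ![g none * a, g none]
    have h := Fintype.linearIndependent_iff.1 (hup _ hw) g' (by
      rw [Fintype.sum_option] at hg
      rw [Fintype.sum_sum_type, Fin.sum_univ_two]
      simp only [g', Sum.elim_inl, Sum.elim_inr, Matrix.cons_val_zero, Matrix.cons_val_one]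
      simp only [y, Option.elim, x, smul_add, smul_smul] at hg
      rw [add_comm]
      exact hg)
    intro o
    cases o with
    | none => exact h (Sum.inr 1)
    | some k => exact h (Sum.inl k)
  refine hQ.no_ts_four (hts y hyQ hyy) ?_
  rw [finrank_span_eq_card hliy, Fintype.card_option, Fintype.card_fin, hUd3]

/-- The residual step, given that subfield groups are proper. -/
theorem forms_of_proper (hQ : Minus Q)
    (hproper : ∀ (F₀ : Subfield F), F₀ ≠ ⊤ → ∀ B : GL (Fin 8) F, ¬ omegaGL ⇑Q ≤ subfieldSubgroup F₀ B)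
    {H P : Subgroup (GL (Fin 8) F)} (hH : IsMaximalIn (omegaGL ⇑Q) H) (le : P ≤ H)
    (normal : ∀ h ∈ H, ∀ x ∈ P, h * x * h⁻¹ ∈ P) (perfect : ⁅P, P⁆ = P)
    (simple : IsSimpleGroup (P ⧸ (scalars (Fin 8) F).subgroupOf P))
    (nonabelian : ¬ IsMulCommutative (P ⧸ (scalars (Fin 8) F).subgroupOf P))
    (centralizer_scalar : ∀ h ∈ H, (∀ x ∈ P, h * x * h⁻¹ * x⁻¹ ∈ scalars (Fin 8) F) → h ∈ scalars (Fin 8) F)
    (habs : ActsAbsolutelyIrreducibly (matrixSet P)) : Cases Q H := by
  classical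
  have hfix : FixesQuadForm (matrixSet P) ⇑Q := by
    rintro _ ⟨x, hx, rfl⟩ v
    exact Orth.iso_quad (Orth.omegaGL_le_isometry (hH.1.le (le hx))) v
  have hP1 : P ≠ ⊥ := by
    rintro rfl
    refine nonabelian ⟨⟨fun a b => ?_⟩⟩
    obtain ⟨a, rfl⟩ := QuotientGroup.mk_surjective a
    obtain ⟨b, rfl⟩ := QuotientGroup.mk_surjective b
    rw [← QuotientGroup.mk_mul, ← QuotientGroup.mk_mul]
    congr 1
    exact Subsingleton.elim _ _
  by_cases hsub : ∃ F₀ : Subfield F, F₀ ≠ ⊤ ∧ RealisableOver F₀ (matrixSet P)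
  · obtain ⟨F₀, h0, hreal⟩ := hsub
    obtain ⟨F₁, r, h1, hr, hc, hR⟩ := PrimeDim.FormDescent.exists_prime_index_realisable h0 hreal
    obtain ⟨B, ζ, hζ, hB, hpol, hN⟩ := exists_rat_structure hQ habs hfix hP1 hR
    rcases hr.eq_two_or_odd' with rfl | hodd
    · exact (index_two_false hQ hc hζ hB hpol).elim
    · refine Or.inr (Or.inr (Or.inr (Or.inr (Or.inr (Or.inr (Or.inr (Or.inl ⟨F₁, r, B, ζ, hr, hodd,
        by rw [← Nat.card_eq_fintype_card]; exact hc, hζ, hB,
        PrimeDim.OrthProper.eq_inf_of_le hH (fun h hh => hN h fun x hx => normal h hh x hx) (hproper F₁ h1 B)⟩)))))))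
  simp only [not_exists, not_and] at hsub
  refine Or.inr (Or.inr (Or.inr (Or.inr (Or.inr (Or.inr (Or.inr (Or.inr
    ⟨P, ⟨le, normal, perfect, simple, nonabelian, centralizer_scalar, habs, hsub⟩, ?_⟩)))))))
  rintro ⟨σ, g, hg, hgf⟩
  obtain ⟨F₀, h0, -, hR⟩ := PrimeDim.FormDescent.realisable_of_unitary_quad hg
    (PrimeDim.OrthCases.nondegenerateForm hQ.nd) habs hgf hfix
  exact hsub F₀ h0 hR

/-- A perfect absolutely irreducible normal subgroup gives a subfield group or the residual class. -/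
theorem forms (hQ : Minus Q) {H P : Subgroup (GL (Fin 8) F)} (hH : IsMaximalIn (omegaGL ⇑Q) H) (le : P ≤ H)
    (normal : ∀ h ∈ H, ∀ x ∈ P, h * x * h⁻¹ ∈ P) (perfect : ⁅P, P⁆ = P)
    (simple : IsSimpleGroup (P ⧸ (scalars (Fin 8) F).subgroupOf P))
    (nonabelian : ¬ IsMulCommutative (P ⧸ (scalars (Fin 8) F).subgroupOf P))
    (centralizer_scalar : ∀ h ∈ H, (∀ x ∈ P, h * x * h⁻¹ * x⁻¹ ∈ scalars (Fin 8) F) → h ∈ scalars (Fin 8) F)
    (habs : ActsAbsolutelyIrreducibly (matrixSet P)) : Cases Q H :=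
  forms_of_proper hQ (fun _ h B => not_le_subfieldSubgroup hQ h B) hH le normal perfect simple nonabelian
    centralizer_scalar habs

end Cfsg.Agent.Lib.MinusEight
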