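import Cfsg.Agent.Lib.MinusEight.Core
import Cfsg.Agent.Lib.TwelveDim.Core
import Cfsg.Agent.Lib.LinearMax.SubField

/-!
The maximal subgroups of `Ω₈⁻(q)`, given the reducible, block, tensor, class two, form and properness steps.
-/

set_option autoImplicit false
set_option linter.unusedSectionVars false

namespace Cfsg.Agent.Lib.MinusEight

open Matrix Module Cfsg.Geo
open QuadraticMap (polarBilin)
open scoped MatrixGroups Matrix

variable {F : Type*} [Field F] [Fintype F] {Q : QuadraticForm F (Fin 8 → F)}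

/-- The list of cases, given the steps. -/
theorem maximal_cases_of {H : Subgroup (GL (Fin 8) F)} (hH : IsMaximalIn (omegaGL ⇑Q) H)
    (hR : ∀ W : Submodule F (Fin 8 → F), W ≠ ⊥ → W ≠ ⊤ →
      (∀ g ∈ H, ∀ w ∈ W, (g : Matrix (Fin 8) (Fin 8) F) *ᵥ w ∈ W) → Cases Q H)
    (hB : BlocksStep Q) (hT : TensorStep Q) (hC : ClassTwoStep Q)
    (hK : ∀ K : Subalgebra F (Matrix (Fin 8) (Fin 8) F), IsFieldSubalgebra 2 K →
      ¬ omegaGL ⇑Q ≤ subalgebraNormalizer K)
    (hF : ∀ P : Subgroup (GL (Fin 8) F), P ≤ H → (∀ h ∈ H, ∀ x ∈ P, h * x * h⁻¹ ∈ P) → ⁅P, P⁆ = P →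
      IsSimpleGroup (P ⧸ (scalars (Fin 8) F).subgroupOf P) →
      ¬ IsMulCommutative (P ⧸ (scalars (Fin 8) F).subgroupOf P) →
      (∀ h ∈ H, (∀ x ∈ P, h * x * h⁻¹ * x⁻¹ ∈ scalars (Fin 8) F) → h ∈ scalars (Fin 8) F) →
      ActsAbsolutelyIrreducibly (matrixSet P) → Cases Q H) :
    Cases Q H := by
  classical
  by_contra hcases
  have hiso : H ≤ Cfsg.isometryGroup F ⇑Q := hH.1.le.trans MaxSub.Orth.omegaGL_le_isometry
  have hirr : ActsIrreducibly (matrixSet H) := by
    refine (TwoPrimeDim.actsIrreducibly_iff H).mpr fun W hW => ?_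
    by_contra h
    rw [not_or] at h
    exact hcases (hR W h.1 h.2 hW)
  have hns : ¬ H ≤ scalars (Fin 8) F := by
    intro hle
    let v : Fin 8 → F := Pi.single 0 1
    have hv : v ≠ 0 := by simp [v]
    rcases (TwoPrimeDim.actsIrreducibly_iff H).mp hirr (F ∙ v) fun g hg w hw => by
        obtain ⟨c, hc⟩ := (mem_scalars_iff g).mp (hle hg)
        rw [hc, Matrix.smul_mulVec, Matrix.one_mulVec]
        exact Submodule.smul_mem _ _ hw with h | h
    · rw [Submodule.span_singleton_eq_bot] at h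
      exact hv h
    · have h1 := finrank_span_singleton (K := F) hv
      rw [h, finrank_top, Module.finrank_fintype_fun_eq_card, Fintype.card_fin] at h1
      omega
  obtain ⟨P, hle, hnorm, hPsc, hmin⟩ := TwelveDim.exists_minimal hns
  have hfield : ∀ (r : ℕ) (K : Subalgebra F (Matrix (Fin 8) (Fin 8) F)), IsFieldSubalgebra r K → 1 < r → r ∣ 8 →
      (∀ g ∈ H, g ∈ subalgebraNormalizer K) → False := by
    intro r K hKf h1 hr hg
    have h2 : 2 ∣ r := by
      have := Nat.le_of_dvd (by norm_num) hr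
      interval_cases r <;> omega
    obtain ⟨L, hL, hLK⟩ := LinearMax.exists_subfield (by omega) h2 hKf
    exact hcases (Or.inr (Or.inr (Or.inr (Or.inr (Or.inr (Or.inr (Or.inl
      ⟨L, hL, PrimeDim.OrthProper.eq_inf_of_le hH (fun g hh => hLK (hg g hh)) (hK L hL)⟩)))))))
  have habs := (scalar_or_absIrred hB hT hiso hirr hle hnorm hfield).resolve_left hPsc
  obtain ⟨hperf, hsimple, hna, hcent⟩ := core hB hT hC hiso hle hnorm hPsc hmin habs
  exact hcases (hF P hle hnorm hperf hsimple hna hcent habs)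

end Cfsg.Agent.Lib.MinusEight
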