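import Cfsg.Agent.Lib.MinusEight.Defs
import Cfsg.Agent.Lib.MaxSub.Orth
import Cfsg.Agent.Lib.MaxSub.QuadType
import Cfsg.Agent.Lib.TwelveDim.Core

/-!
helper2: in a space of dimension eight with no totally singular four-space there is no skew
matrix with scalar non-zero square (odd characteristic), hence no normal subgroup of class two.
-/

set_option autoImplicit false
set_option linter.unusedSectionVars false

namespace Cfsg.Agent.Lib.MinusEight

open Matrix Module QuadraticMap Cfsg.Agent.Lib.MaxSub Cfsg.Agent.Lib.SLTwoPrime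
open Cfsg.Agent.Lib.MaxSub.QuadType (perp dim_inf_perp nd_top ts_polar)
open Cfsg.Agent.Lib.Geometry (quad_add quad_sub quad_smul quad_polar_self quad_polar_comm)
open scoped MatrixGroups Matrix

attribute [-simp] QuadraticMap.polarBilin_apply_apply

variable {F : Type*} [Field F]

local notation "II" => Fin 8
local notation "MM" => Matrix (Fin 8) (Fin 8) F
local notation "VV" => (Fin 8 → F)
local notation "GG" => GL (Fin 8) F

/-- `Y` is the adjoint of `X`. -/
def IsAdj (Q : QuadraticForm F VV) (X Y : MM) : Prop :=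
  ∀ u v : VV, polarBilin Q (X *ᵥ u) v = polarBilin Q u (Y *ᵥ v)

/-- no totally singular four-space -/
def NoFour (Q : QuadraticForm F VV) : Prop :=
  ∀ U : Submodule F VV, (∀ u ∈ U, Q u = 0) → finrank F U < 4

variable {Q : QuadraticForm F (Fin 8 → F)}


theorem noFour (hQ : Minus Q) : NoFour Q := fun _ hU => Nat.lt_succ_of_le (hQ.finrank_ts_le hU)

theorem IsAdj.symm {X Y : MM} (h : IsAdj Q X Y) : IsAdj Q Y X := fun u v => by
  rw [quad_polar_comm, ← h, quad_polar_comm]

theorem IsAdj.mul {X Y X' Y' : MM} (h : IsAdj Q X Y) (h' : IsAdj Q X' Y') : IsAdj Q (X * X') (Y' * Y) := fun u v => by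
  rw [← mulVec_mulVec, h, h', mulVec_mulVec]

theorem IsAdj.add {X Y X' Y' : MM} (h : IsAdj Q X Y) (h' : IsAdj Q X' Y') : IsAdj Q (X + X') (Y + Y') := fun u v => by
  rw [add_mulVec, add_mulVec, map_add, LinearMap.add_apply, map_add, h, h']

theorem IsAdj.smul {X Y : MM} (h : IsAdj Q X Y) (c : F) : IsAdj Q (c • X) (c • Y) := fun u v => by
  rw [smul_mulVec, smul_mulVec, map_smul, LinearMap.smul_apply, map_smul, h]

theorem IsAdj.one : IsAdj Q (1 : MM) 1 := fun u v => by rw [one_mulVec, one_mulVec]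

theorem IsAdj.zero : IsAdj Q (0 : MM) 0 := fun u v => by simp

theorem IsAdj.neg {X Y : MM} (h : IsAdj Q X Y) : IsAdj Q (-X) (-Y) := by
  have := h.smul (-1)
  rwa [neg_one_smul, neg_one_smul] at this

theorem IsAdj.unique (hN : (polarBilin Q).Nondegenerate) {X Y Y' : MM} (h : IsAdj Q X Y) (h' : IsAdj Q X Y') :
    Y = Y' := by
  refine Matrix.ext_iff_mulVec.2 fun v => sub_eq_zero.1 (hN.2 _ fun u => ?_)
  rw [map_sub, ← h, ← h', sub_self]

theorem isAdj_of_isometry {g : GG} (hg : g ∈ Cfsg.isometryGroup F (Q : VV → F)) : IsAdj Q (g : MM) ((g⁻¹ : GG) : MM) :=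
  fun u v => by
    conv_lhs => rw [show v = (g : MM) *ᵥ (((g⁻¹ : GG) : MM) *ᵥ v) by simp [mulVec_mulVec, -Matrix.coe_units_inv]]
    rw [Orth.iso_polar hg]

variable [Finite F]

theorem step (hN : (polarBilin Q).Nondegenerate) (h2 : (2 : F) ≠ 0) {X : MM} (hX : IsAdj Q X (-X)) {c : F}
    (hc : X * X = c • (1 : MM)) (hns : ∀ s : F, s * s ≠ c) {U : Submodule F VV} (hU : ∀ u ∈ U, Q u = 0)
    (hUX : ∀ u ∈ U, X *ᵥ u ∈ U) (hd : finrank F U ≤ 2) :
    ∃ W : Submodule F VV, (∀ u ∈ W, Q u = 0) ∧ (∀ u ∈ W, X *ᵥ u ∈ W) ∧ finrank F U + 2 ≤ finrank F W ∧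
      ∃ v, W = U ⊔ Submodule.span F {v, X *ᵥ v} := by
  have hXX : ∀ v, X *ᵥ (X *ᵥ v) = c • v := fun v => by rw [mulVec_mulVec, hc, smul_mulVec, one_mulVec]
  set P := perp Q U with hP
  have hPd : finrank F U + finrank F P = 8 := by
    have := dim_inf_perp Q (nd_top Q hN) (le_top : U ≤ ⊤)
    rwa [top_inf_eq, finrank_top, Module.finrank_fintype_fun_eq_card, Fintype.card_fin] at this
  have hUP : U ≤ P := fun u hu w hw => ts_polar Q hU hw hu
  obtain ⟨C, hC⟩ := Submodule.exists_isCompl (U.comap P.subtype)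
  have hCd : finrank F C + finrank F U = finrank F P := by
    have h := Submodule.finrank_add_eq_of_isCompl hC
    have h' : finrank F (U.comap P.subtype) = finrank F U :=
      (Submodule.comapSubtypeEquivOfLe hUP).finrank_eq
    omega
  have hC3 : 3 ≤ finrank F (C.map P.subtype) := by
    rw [← (Submodule.equivMapOfInjective _ P.subtype_injective C).finrank_eq]
    omega
  obtain ⟨v, hvC, hv0, hQv⟩ := Orth.exists_singular (Q := Q) _ hC3
  obtain ⟨v', hv', rfl⟩ := Submodule.mem_map.1 hvC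
  set v : VV := P.subtype v' with hv
  have hvU : v ∉ U := fun h => hv0 (by
    have := Submodule.disjoint_def.1 hC.disjoint v' h hv'
    rw [hv, this, map_zero])
  have hvP : ∀ u ∈ U, polarBilin Q u v = 0 := fun u hu => v'.2 u hu
  have h1 : polarBilin Q v (X *ᵥ v) = 0 := by
    have h := hX v v
    rw [neg_mulVec, map_neg, quad_polar_comm] at h
    exact (mul_eq_zero.1 (show (2 : F) * polarBilin Q v (X *ᵥ v) = 0 by linear_combination h)).resolve_left h2
  have hQXv : Q (X *ᵥ v) = 0 := by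
    have h := hX v (X *ᵥ v)
    rw [neg_mulVec, map_neg, hXX, map_smul, quad_polar_self, quad_polar_self, hQv, mul_zero, smul_zero, neg_zero] at h
    exact (mul_eq_zero.1 h).resolve_left h2
  let S : Submodule F VV := Submodule.span F {v, X *ᵥ v}
  have hS : ∀ w ∈ S, ∃ a b : F, a • v + b • (X *ᵥ v) = w := fun w hw => Submodule.mem_span_pair.1 hw
  refine ⟨U ⊔ S, ?_, ?_, ?_, v, rfl⟩
  · intro z hz
    obtain ⟨u, hu, w, hw, rfl⟩ := Submodule.mem_sup.1 hz
    obtain ⟨a, b, rfl⟩ := hS w hw
    have e1 : polarBilin Q u (X *ᵥ v) = 0 := by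
      have := hX u v
      rw [hvP _ (hUX u hu), neg_mulVec, map_neg] at this
      exact neg_eq_zero.1 this.symm
    simp only [quad_add, quad_smul, map_add, map_smul, LinearMap.smul_apply, smul_eq_mul, hU u hu, hQv, hQXv,
      hvP u hu, e1, h1, mul_zero, add_zero]
  · intro z hz
    obtain ⟨u, hu, w, hw, rfl⟩ := Submodule.mem_sup.1 hz
    obtain ⟨a, b, rfl⟩ := hS w hw
    rw [mulVec_add, mulVec_add, mulVec_smul, mulVec_smul, hXX]
    refine add_mem (Submodule.mem_sup_left (hUX u hu)) (Submodule.mem_sup_right ?_)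
    exact add_mem (Submodule.smul_mem _ _ (Submodule.subset_span (by simp)))
      (Submodule.smul_mem _ _ (Submodule.smul_mem _ _ (Submodule.subset_span (by simp))))
  · have hlt1 : U < U ⊔ F ∙ v := lt_of_le_of_ne le_sup_left fun h =>
      hvU (h ▸ Submodule.mem_sup_right (Submodule.mem_span_singleton_self v))
    have hXv : X *ᵥ v ∉ U ⊔ F ∙ v := by
      intro h
      obtain ⟨u, hu, w, hw, he⟩ := Submodule.mem_sup.1 h
      obtain ⟨b, rfl⟩ := Submodule.mem_span_singleton.1 hw
      have h3 := congrArg (X *ᵥ ·) he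
      simp only [mulVec_add, mulVec_smul, hXX] at h3
      rw [← he, smul_add, smul_smul] at h3
      have h4 : (c - b * b) • v = X *ᵥ u + b • u := by
        rw [sub_smul, ← h3]; abel
      exact hvU ((Submodule.smul_mem_iff _ (sub_ne_zero.2 fun e => hns b e.symm)).1
        (h4 ▸ add_mem (hUX u hu) (U.smul_mem b hu)))
    have hle : U ⊔ F ∙ v ≤ U ⊔ S := sup_le_sup_left (Submodule.span_mono (by simp)) _
    have hlt2 : U ⊔ F ∙ v < U ⊔ S := lt_of_le_of_ne hle fun h =>
      hXv (h ▸ Submodule.mem_sup_right (Submodule.subset_span (by simp)))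
    have := Submodule.finrank_lt_finrank_of_lt hlt1
    have := Submodule.finrank_lt_finrank_of_lt hlt2
    omega

/-- In odd characteristic no skew matrix has a non-zero scalar square. -/
theorem skew_false (hN : (polarBilin Q).Nondegenerate) (hno : NoFour Q) (h2 : (2 : F) ≠ 0) {X : MM}
    (hX : IsAdj Q X (-X)) {c : F} (hc : X * X = c • (1 : MM)) (hc0 : c ≠ 0) : False := by
  have hXX : ∀ v, X *ᵥ (X *ᵥ v) = c • v := fun v => by rw [mulVec_mulVec, hc, smul_mulVec, one_mulVec]
  by_cases hs : ∃ s : F, s * s = c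
  · obtain ⟨s, hs⟩ := hs
    have hs0 : s ≠ 0 := fun h => hc0 (by rw [← hs, h, mul_zero])
    let E : F → Submodule F VV := fun t => LinearMap.ker ((X - t • (1 : MM)).toLin')
    have hE : ∀ t v, v ∈ E t ↔ X *ᵥ v = t • v := fun t v => by
      simp [E, sub_mulVec, smul_mulVec, sub_eq_zero]
    have hts : ∀ t, t ≠ 0 → ∀ u ∈ E t, Q u = 0 := by
      intro t ht u hu
      have h := hX u u
      rw [neg_mulVec, (hE t u).1 hu, map_neg, map_smul, LinearMap.smul_apply, map_smul, smul_eq_mul, quad_polar_self] at h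
      exact (mul_eq_zero.1 (show (2 * 2 * t) * Q u = 0 by linear_combination h)).resolve_left
        (mul_ne_zero (mul_ne_zero h2 h2) ht)
    have hsum : ⊤ ≤ E s ⊔ E (-s) := by
      intro v _
      refine Submodule.mem_sup.2 ⟨(2 * s)⁻¹ • (s • v + X *ᵥ v), ?_, (2 * s)⁻¹ • (s • v - X *ᵥ v), ?_, ?_⟩
      · rw [hE, mulVec_smul, mulVec_add, mulVec_smul, hXX, ← hs]
        module
      · rw [hE, mulVec_smul, mulVec_sub, mulVec_smul, hXX, ← hs]
        module
      · rw [← smul_add]
        have : s • v + X *ᵥ v + (s • v - X *ᵥ v) = (2 * s) • v := by module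
        rw [this, inv_smul_smul₀ (mul_ne_zero h2 hs0)]
    have h1 := Submodule.finrank_mono hsum
    have h3 := Submodule.finrank_sup_add_finrank_inf_eq (E s) (E (-s))
    have := hno _ (hts s hs0)
    have := hno _ (hts (-s) (neg_ne_zero.2 hs0))
    rw [finrank_top, Module.finrank_fintype_fun_eq_card, Fintype.card_fin] at h1
    omega
  push Not at hs
  obtain ⟨W, hW, hWX, hd, v, hv⟩ := step hN h2 hX hc hs (U := ⊥)
    (fun u hu => by rw [(Submodule.mem_bot F).1 hu, map_zero])
    (fun u hu => by rw [(Submodule.mem_bot F).1 hu, mulVec_zero]; exact zero_mem _) (by simp)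
  have hW2 : finrank F W ≤ 2 := by
    rw [hv, bot_sup_eq]
    classical
    refine (finrank_span_le_card ({v, X *ᵥ v} : Set VV)).trans ?_
    simp [Set.toFinset_insert, Finset.card_le_two]
  obtain ⟨W', hW', -, hd', -⟩ := step hN h2 hX hc hs hW hWX hW2
  rw [finrank_bot] at hd
  have := hno W' hW'
  omega

/-- There is no isometry group of class two spanning the matrix algebra. -/
theorem class_two_false (hN : (polarBilin Q).Nondegenerate) (hno : NoFour Q) {N : Subgroup GG}
    (hiso : N ≤ Cfsg.isometryGroup F (Q : VV → F)) (htop : adj N = ⊤)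
    (hab : ∀ x ∈ N, ∀ y ∈ N, x * y * x⁻¹ * y⁻¹ ∈ Cfsg.Geo.scalars II F) : False := by
  have hsc : ∀ (z : GG) (d : F), z ∈ N → (z : MM) = d • (1 : MM) → d = 1 ∨ d = -1 := by
    intro z d hz hd
    obtain ⟨u, w, huw⟩ : ∃ u w, polarBilin Q u w ≠ 0 := by
      by_contra hc
      push Not at hc
      have := hN.1 (Pi.single 0 1) (hc _)
      exact one_ne_zero (α := F) (by simpa using congrFun this 0)
    have h := Orth.iso_polar (hiso hz) u w
    simp only [hd, smul_mulVec, one_mulVec, map_smul, LinearMap.smul_apply, smul_eq_mul, ← mul_assoc] at h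
    exact mul_self_eq_one_iff.1 (mul_right_cancel₀ huw (h.trans (one_mul _).symm))
  have hcom : ∀ x ∈ N, ∀ y ∈ N, (x : MM) * y = (y : MM) * x ∨ (x : MM) * y = -((y : MM) * x) := by
    intro x hx y hy
    obtain ⟨du, hd⟩ := (Cfsg.Geo.mem_scalars_iff _).1 (hab x hx y hy)
    generalize (du : F) = d at hd
    have he : (x : MM) * y = d • ((y : MM) * x) := by
      rw [← Units.val_mul, ← Units.val_mul, show x * y = x * y * x⁻¹ * y⁻¹ * (y * x) by group, Units.val_mul, hd,
        smul_mul_assoc, one_mul]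
    rcases hsc _ d (mul_mem (mul_mem (mul_mem hx hy) (inv_mem hx)) (inv_mem hy)) hd with h | h
    · exact Or.inl (by rw [he, h, one_smul])
    · exact Or.inr (by rw [he, h, neg_one_smul])
  have hnab : ¬ ∀ x ∈ N, ∀ y ∈ N, (x : MM) * y = (y : MM) * x := by
    intro h
    have hc : ∀ a ∈ adj N, ∀ x ∈ N, a * (x : MM) = (x : MM) * a := fun a ha x hx =>
      (commute_adj (M := (x : MM)) (fun y hy => h x hx y hy) a ha).symm
    have h1 := hc (Matrix.single 0 1 1) (htop ▸ Algebra.mem_top)
    have h2 := commute_adj (M := (Matrix.single 0 1 1 : MM)) h1 (Matrix.single 1 0 1) (htop ▸ Algebra.mem_top)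
    have := congrFun (congrFun h2 0) 0
    simp [Matrix.mul_apply, Matrix.single_apply] at this
  have hsq : ∀ x ∈ N, ∃ d : F, ((x : MM) * x) = d • (1 : MM) := by
    intro x hx
    refine scalar_of_commute htop fun y hy => ?_
    rcases hcom x hx y hy with h | h
    · rw [mul_assoc, h, ← mul_assoc, h, mul_assoc]
    · rw [mul_assoc, h, mul_neg, ← mul_assoc, h, neg_mul, neg_neg, mul_assoc]
  obtain ⟨x, hx, hxx⟩ : ∃ x ∈ N, (x : MM) * x ≠ 1 := by
    by_contra hc
    push Not at hc
    refine hnab fun x hx y hy => ?_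
    have h := hc (x * y) (mul_mem hx hy)
    rw [Units.val_mul] at h
    calc (x : MM) * y = (x : MM) * y * ((y : MM) * y) * 1 := by rw [hc y hy, mul_one, mul_one]
      _ = (y : MM) * x := by
        rw [show (1 : MM) = (x : MM) * x from (hc x hx).symm]
        have h' : (x : MM) * y * ((x : MM) * y) = 1 := h
        calc (x : MM) * y * ((y : MM) * y) * ((x : MM) * x)
            = (x : MM) * ((y : MM) * y) * ((y : MM) * ((x : MM) * x)) := by noncomm_ring
          _ = (x : MM) * ((y : MM) * ((x : MM) * x)) := by rw [hc y hy, mul_one]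
          _ = ((x : MM) * y * ((x : MM) * y)) * ((y : MM) * x) := by
              rw [show (x : MM) * y * ((x : MM) * y) * ((y : MM) * x) = (x : MM) * y * (x : MM) * ((y : MM) * y) * x by
                noncomm_ring, hc y hy]
              noncomm_ring
          _ = _ := by rw [h', one_mul]
  obtain ⟨d, hd⟩ := hsq x hx
  rcases hsc (x * x) d (mul_mem hx hx) (by rw [Units.val_mul, hd]) with h | h
  · exact hxx (by rw [hd, h, one_smul])
  by_cases h2 : (2 : F) = 0
  · exact hxx (by rw [hd, h, show (-1 : F) = 1 by linear_combination -h2, one_smul])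
  subst h
  have hinv : ((x⁻¹ : GG) : MM) = -(x : MM) := by
    calc ((x⁻¹ : GG) : MM) = ((x⁻¹ : GG) : MM) * (-((x : MM) * x)) := by rw [hd, neg_one_smul, neg_neg, mul_one]
      _ = -(x : MM) := by rw [mul_neg, ← mul_assoc, Units.inv_mul, one_mul]
  exact skew_false hN hno h2 (hinv ▸ isAdj_of_isometry (hiso hx)) hd (neg_ne_zero.2 one_ne_zero)

/-- No absolutely irreducible group of isometries is abelian modulo scalars. -/
theorem Minus.classTwo_false (hQ : Minus Q) {R : Subgroup GG} (hR : R ≤ Cfsg.isometryGroup F (Q : VV → F))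
    (habs : Cfsg.Geo.ActsAbsolutelyIrreducibly (Cfsg.Geo.matrixSet R))
    (hcomm : ∀ x ∈ R, ∀ y ∈ R, x * y * x⁻¹ * y⁻¹ ∈ Cfsg.Geo.scalars II F) : False :=
  class_two_false hQ.nd (noFour hQ) hR (TwelveDim.adj_top habs) hcomm

end Cfsg.Agent.Lib.MinusEight
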