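import Cfsg.Agent.Lib.MinusEight.Defs
import Cfsg.Agent.Lib.SympTwoPrime.Tensor
import Cfsg.Agent.Lib.SLTwoPrime.Algebra

/-!
No irreducible group of isometries of a form of minus type in dimension eight has a tensor decomposable normal
subgroup.
-/

set_option autoImplicit false
set_option linter.unusedSectionVars false

namespace Cfsg.Agent.Lib.MinusEight

open Matrix Cfsg.Geo
open Cfsg.Agent.Lib.MaxTensor
open Cfsg.Agent.Lib.SympTwoPrime (exists_kronecker ext_dot alt_of_symm)
open QuadraticMap (polarBilin)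
open scoped MatrixGroups Matrix

attribute [-simp] QuadraticMap.polarBilin_apply_apply

variable {F : Type*} [Field F]

theorem polar_self (Q : QuadraticForm F (Fin 8 → F)) (v : Fin 8 → F) : polarBilin Q v v = 2 * Q v := by
  rw [QuadraticMap.polarBilin_apply_apply]
  simpa using QuadraticMap.polar_self Q v

theorem add_quad (Q : QuadraticForm F (Fin 8 → F)) (v w : Fin 8 → F) :
    Q (v + w) = Q v + Q w + polarBilin Q v w := by
  rw [QuadraticMap.polarBilin_apply_apply]
  simp [QuadraticMap.polar]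

theorem binary_surj [Fintype F] (h2 : (2 : F) ≠ 0) {a b : F} (ha : a ≠ 0) (hb : b ≠ 0) (c : F) :
    ∃ x y : F, a * x ^ 2 + b * y ^ 2 = c := by
  have hodd : Fintype.card F % 2 = 1 := FiniteField.odd_card_of_char_ne_two fun h' => h2 (by
    haveI := ringChar.of_eq h'
    exact CharTwo.two_eq_zero)
  obtain ⟨x, y, hxy⟩ := FiniteField.exists_root_sum_quadratic (R := F)
    (f := Polynomial.X ^ 2 + Polynomial.C (-(c / a))) (g := Polynomial.C (b / a) * Polynomial.X ^ 2)
    (Polynomial.degree_X_pow_add_C (by norm_num) _)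
    (by rw [Polynomial.degree_C_mul_X_pow 2 (div_ne_zero hb ha)]; rfl) hodd
  refine ⟨x, y, ?_⟩
  simp only [Polynomial.eval_add, Polynomial.eval_pow, Polynomial.eval_X, Polynomial.eval_C,
    Polynomial.eval_mul] at hxy
  field_simp at hxy
  linear_combination hxy

variable [Fintype F] {Q : QuadraticForm F (Fin 8 → F)}

/-- A totally singular image of a four dimensional space. -/
theorem false_of_ts (hQ : Minus Q) (f : (Fin 4 → F) →ₗ[F] (Fin 8 → F)) (hinj : Function.Injective f)
    (hts : ∀ t, Q (f t) = 0) : False := by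
  refine hQ.no_ts_four (U := LinearMap.range f) (by rintro _ ⟨t, rfl⟩; exact hts t) ?_
  rw [LinearMap.finrank_range_of_inj hinj, Module.finrank_fin_fun]

/-- In odd characteristic the form is no product of a binary and a quaternary form. -/
theorem false_of_product (hQ : Minus Q) (h2 : (2 : F) ≠ 0)
    (P : (Fin 2 → F) →ₗ[F] (Fin 4 → F) →ₗ[F] (Fin 8 → F))
    {β : Matrix (Fin 2) (Fin 2) F} {γ : Matrix (Fin 4) (Fin 4) F} (hγu : IsUnit γ) {ε : F} (hε : ε * ε = 1)
    (hβt : βᵀ = ε • β) (hγt : γᵀ = ε • γ)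
    (hpol : ∀ u u' t t', polarBilin Q (P u t) (P u' t') = (u ⬝ᵥ β *ᵥ u') * (t ⬝ᵥ γ *ᵥ t'))
    (hP : ∀ t t', P (Pi.single 0 1) t + P (Pi.single 1 1) t' = 0 → t = 0 ∧ t' = 0) : False := by
  classical
  have hexp : ∀ u, u = u 0 • (Pi.single 0 1 : Fin 2 → F) + u 1 • (Pi.single 1 1 : Fin 2 → F) := fun u => by
    funext i; fin_cases i <;> simp
  have hPuv : ∀ u w t t', P u t + P w t' = 0 → u 0 • t + w 0 • t' = 0 ∧ u 1 • t + w 1 • t' = 0 := by
    intro u w t t' h
    refine hP _ _ ?_
    rw [← h]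
    conv_rhs => rw [hexp u, hexp w]
    simp only [map_add, map_smul, LinearMap.add_apply, LinearMap.smul_apply]
    abel
  have hQ2 : ∀ v, polarBilin Q v v = 0 → Q v = 0 := fun v hv =>
    (mul_eq_zero.1 ((polar_self Q v).symm.trans hv)).resolve_left h2
  by_cases hiso : ∃ u, u ≠ 0 ∧ u ⬝ᵥ β *ᵥ u = 0
  · obtain ⟨u, hu, hu0⟩ := hiso
    refine false_of_ts hQ (P u) ?_ fun t => hQ2 _ (by rw [hpol, hu0, zero_mul])
    rw [injective_iff_map_eq_zero]
    intro t ht
    obtain ⟨h0, h1⟩ := hPuv u 0 t 0 (by simp [ht])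
    simp only [Pi.zero_apply, zero_smul, add_zero] at h0 h1
    by_contra htne
    exact hu (funext fun i => by
      fin_cases i
      · exact (smul_eq_zero.1 h0).resolve_right htne
      · exact (smul_eq_zero.1 h1).resolve_right htne)
  push Not at hiso
  have hswap : ∀ {m : ℕ} {X : Matrix (Fin m) (Fin m) F}, Xᵀ = ε • X → ∀ x y, y ⬝ᵥ X *ᵥ x = ε * (x ⬝ᵥ X *ᵥ y) :=
    fun {m X} hX x y => by
      rw [Matrix.dotProduct_mulVec, dotProduct_comm, ← Matrix.mulVec_transpose, hX, Matrix.smul_mulVec,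
        dotProduct_smul, smul_eq_mul]
  set f0 : Fin 2 → F := Pi.single 0 1 with hf0
  have hf0ne : f0 ≠ 0 := fun h => one_ne_zero (α := F) (by simpa [f0] using congrFun h 0)
  set a0 := f0 ⬝ᵥ β *ᵥ f0 with ha0
  have ha0ne : a0 ≠ 0 := hiso f0 hf0ne
  have hε1 : ε = 1 := by
    have := hswap hβt f0 f0
    rw [← ha0] at this
    exact (mul_eq_right₀ ha0ne).1 this.symm
  set f1 : Fin 2 → F := ![-(β 0 1), β 0 0] with hf1
  have hb00 : β 0 0 = a0 := by simp [a0, f0]
  have hf1ne : f1 ≠ 0 := fun h => ha0ne (by rw [← hb00]; simpa [f1] using congrFun h 1)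
  set a1 := f1 ⬝ᵥ β *ᵥ f1 with ha1
  have ha1ne : a1 ≠ 0 := hiso f1 hf1ne
  have h01 : f0 ⬝ᵥ β *ᵥ f1 = 0 := by
    simp [f0, f1, Matrix.mulVec, dotProduct, Fin.sum_univ_two]; ring
  have h10 : f1 ⬝ᵥ β *ᵥ f0 = 0 := by rw [hswap hβt, h01, mul_zero]
  haveI : Invertible (2 : F) := invertibleOfNonzero h2
  set Bγ := Matrix.toBilin' γ with hBγ
  obtain ⟨v, hv⟩ := LinearMap.BilinForm.exists_orthogonal_basis (B := Bγ) (by
    refine ⟨fun x y => ?_⟩
    simp only [hBγ, Matrix.toBilin'_apply', RingHom.id_apply]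
    rw [hswap hγt y x, hε1, one_mul])
  let bv : Module.Basis (Fin 4) F (Fin 4 → F) :=
    v.reindex (finCongr (Module.finrank_fin_fun F))
  have hbv : ∀ i j, i ≠ j → bv i ⬝ᵥ γ *ᵥ bv j = 0 := fun i j hij => by
    have := hv (show (finCongr (Module.finrank_fin_fun F (n := 4))).symm i ≠ (finCongr (Module.finrank_fin_fun F (n := 4))).symm j
      from fun h => hij ((finCongr (Module.finrank_fin_fun F (n := 4))).symm.injective h))
    simpa [bv, hBγ, Matrix.toBilin'_apply', Module.Basis.reindex_apply, Function.onFun] using this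
  set c : Fin 4 → F := fun i => bv i ⬝ᵥ γ *ᵥ bv i with hc
  have hcne : ∀ i, c i ≠ 0 := fun i hi => by
    have hz : γ *ᵥ bv i = 0 := by
      refine dotProduct_eq_zero _ fun x => ?_
      rw [dotProduct_comm, ← bv.sum_repr x, sum_dotProduct]
      refine Finset.sum_eq_zero fun j _ => ?_
      rw [smul_dotProduct]
      by_cases hji : j = i
      · subst hji
        rw [show bv j ⬝ᵥ γ *ᵥ bv j = 0 from hi, smul_zero]
      · rw [hbv j i hji, smul_zero]
    exact bv.ne_zero i (Matrix.mulVec_injective_iff_isUnit.2 hγu (hz.trans (Matrix.mulVec_zero γ).symm))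
  obtain ⟨x, y, hxy⟩ := binary_surj h2 (hcne 0) (hcne 1) (-(a0 * c 0) / a1)
  obtain ⟨z, w, hzw⟩ := binary_surj h2 (hcne 2) (hcne 3) (-(a0 * c 2) / a1)
  let M : Matrix (Fin 4) (Fin 4) F :=
    !![x, -(c 1 * y / c 0), 0, 0; y, x, 0, 0; 0, 0, z, -(c 3 * w / c 2); 0, 0, w, z]
  let S : (Fin 4 → F) →ₗ[F] (Fin 4 → F) := bv.equivFun.symm.toLinearMap
  let Λ : (Fin 4 → F) →ₗ[F] (Fin 8 → F) := (P f0).comp S + (P f1).comp (S.comp M.toLin')
  have hS : ∀ s, S s ⬝ᵥ γ *ᵥ S s = ∑ i, c i * (s i * s i) := fun s => by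
    show bv.equivFun.symm s ⬝ᵥ γ *ᵥ bv.equivFun.symm s = _
    rw [Module.Basis.equivFun_symm_apply, Matrix.mulVec_sum, dotProduct_sum]
    refine Finset.sum_congr rfl fun i _ => ?_
    rw [sum_dotProduct, Finset.sum_eq_single i]
    · rw [Matrix.mulVec_smul, smul_dotProduct, dotProduct_smul, smul_eq_mul, smul_eq_mul]; ring
    · intro j _ hji
      rw [Matrix.mulVec_smul, smul_dotProduct, dotProduct_smul, hbv j i hji, smul_zero, smul_zero]
    · exact fun h => absurd (Finset.mem_univ i) h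
  refine false_of_ts hQ Λ ?_ fun t => hQ2 _ ?_
  · rw [injective_iff_map_eq_zero]
    intro t ht
    obtain ⟨h0, h1⟩ := hPuv f0 f1 (S t) (S (M *ᵥ t)) (by simpa [Λ, LinearMap.comp_apply] using ht)
    have e : S (M *ᵥ t) = 0 := by
      simpa [f0, f1, hb00, smul_eq_zero, ha0ne] using h1
    rw [e] at h0
    have : S t = 0 := by simpa [f0, f1] using h0
    exact bv.equivFun.symm.injective (this.trans (map_zero bv.equivFun.symm).symm)
  · have e : Λ t = P f0 (S t) + P f1 (S (M *ᵥ t)) := by simp [Λ]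
    rw [e]
    simp only [map_add, LinearMap.add_apply, hpol, h01, h10, hS, ← ha0, ← ha1]
    have k1 : a1 * (c 0 * x ^ 2 + c 1 * y ^ 2) = -(a0 * c 0) := by rw [hxy]; field_simp
    have k2 : a1 * (c 2 * z ^ 2 + c 3 * w ^ 2) = -(a0 * c 2) := by rw [hzw]; field_simp
    have h0 := hcne 0
    have h2' := hcne 2
    simp only [Fin.sum_univ_four, Matrix.mulVec, dotProduct, M, Matrix.of_apply, Matrix.cons_val', Matrix.cons_val_zero,
      Matrix.cons_val_one, Matrix.cons_val, Matrix.empty_val', Matrix.cons_val_fin_one, zero_mul, add_zero, zero_add]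
    field_simp
    linear_combination (c 2 * (c 0 * t 0 ^ 2 + c 1 * t 1 ^ 2)) * k1 + (c 0 * (c 2 * t 2 ^ 2 + c 3 * t 3 ^ 2)) * k2

/-- No tensor decomposable normal subgroup. -/
theorem tensor_false (hQ : Minus Q) {G N : Subgroup (GL (Fin 8) F)} (hG : G ≤ Cfsg.isometryGroup F ⇑Q)
    (hirrG : ActsIrreducibly (matrixSet G)) (hNG : N ≤ G) (hnorm : ∀ g ∈ G, ∀ x ∈ N, g * x * g⁻¹ ∈ N)
    {d k : ℕ} (hdk : d * k = 8) (hd : 1 < d) (hk : 1 < k) (A : N → Matrix (Fin d) (Fin d) F)
    (hirr : ∀ U : Submodule F (Fin d → F), (∀ n, ∀ u ∈ U, A n *ᵥ u ∈ U) → U = ⊥ ∨ U = ⊤)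
    (hscal : ∀ M : Matrix (Fin d) (Fin d) F, (∀ n, M * A n = A n * M) → ∃ c : F, M = c • 1)
    (φ : Fin k → (Fin d → F) →ₗ[F] (Fin 8 → F))
    (hequiv : ∀ j (n : N) x, ((n : GL (Fin 8) F) : Matrix (Fin 8) (Fin 8) F) *ᵥ φ j x = φ j (A n *ᵥ x))
    (hbij : Function.Bijective (assemble φ)) : False := by
  classical
  set B := polarBilin Q with hB
  have hBsymm : ∀ v w, B v w = B w v := fun v w => by
    simp only [hB, QuadraticMap.polarBilin_apply_apply, QuadraticMap.polar_comm]
  have hφinj : ∀ j, Function.Injective (φ j) := fun j x y hxy => by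
    have h := hbij.1 (a₁ := Pi.single j x) (a₂ := Pi.single j y) (by
      have e : ∀ v, assemble φ (Pi.single j v) = φ j v := fun v => by
        show ∑ l, φ l (Pi.single (M := fun _ => Fin d → F) j v l) = φ j v
        rw [Finset.sum_eq_single j (fun l _ hl => by rw [Pi.single_eq_of_ne hl, map_zero])
          (fun hn => absurd (Finset.mem_univ _) hn), Pi.single_eq_same]
      rw [e, e, hxy])
    simpa using congrFun h j
  have hAu : ∀ n : N, IsUnit (A n) := fun n => by
    rw [← Matrix.mulVec_injective_iff_isUnit]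
    intro x y hxy
    apply hφinj ⟨0, by omega⟩
    apply Matrix.mulVec_injective_iff_isUnit.2 (n : GL (Fin 8) F).isUnit
    show ((n : GL (Fin 8) F) : Matrix (Fin 8) (Fin 8) F) *ᵥ _ = ((n : GL (Fin 8) F) : Matrix (Fin 8) (Fin 8) F) *ᵥ _
    rw [hequiv, hequiv]
    exact congrArg _ hxy
  set M : Fin k → Fin k → Matrix (Fin d) (Fin d) F := fun i j =>
    LinearMap.BilinForm.toMatrix' (B.compl₁₂ (φ i) (φ j)) with hMdef
  have hM : ∀ i j x y, B (φ i x) (φ j y) = x ⬝ᵥ M i j *ᵥ y := fun i j x y => by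
    rw [← Matrix.toBilin'_apply', hMdef, Matrix.toBilin'_toMatrix']
    rfl
  have hinv : ∀ i j n, (A n)ᵀ * M i j * A n = M i j := fun i j n => ext_dot fun x y => by
    rw [← hM, ← Matrix.mulVec_mulVec, ← Matrix.mulVec_mulVec, Matrix.dotProduct_mulVec, Matrix.vecMul_transpose,
      ← hM, ← hequiv, ← hequiv]
    exact MaxSub.Orth.iso_polar (hG (hNG n.2)) _ _
  have hflat : ∀ v w : Fin k → Fin d → F, B (assemble φ v) (assemble φ w) = ∑ i, ∑ j, v i ⬝ᵥ M i j *ᵥ w j := by
    intro v w
    show B (∑ i, φ i (v i)) (∑ j, φ j (w j)) = _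
    rw [LinearMap.map_sum₂]
    refine Finset.sum_congr rfl fun i _ => ?_
    rw [map_sum]
    exact Finset.sum_congr rfl fun j _ => hM i j _ _
  obtain ⟨i₀, j₀, hne⟩ : ∃ i j, M i j ≠ 0 := by
    by_contra hcon
    push Not at hcon
    refine one_ne_zero (α := F) ?_
    have h := hQ.nd.1 (Pi.single 0 1) fun x => by
      obtain ⟨v, hv⟩ := hbij.2 x
      obtain ⟨w, hw⟩ := hbij.2 (Pi.single (0 : Fin 8) (1 : F))
      rw [← hv, ← hw, ← hB, hflat]
      simp [hcon]
    simpa using congrFun h 0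
  set g := M i₀ j₀ with hg
  have hgu : IsUnit g := by
    rw [← Matrix.mulVec_injective_iff_isUnit]
    have hker : LinearMap.ker (Matrix.toLin' g) = ⊥ := by
      refine (hirr _ fun n u hu => ?_).resolve_right fun htop => hne ?_
      · rw [LinearMap.mem_ker, Matrix.toLin'_apply] at hu ⊢
        refine Matrix.mulVec_injective_iff_isUnit.2 ((Matrix.isUnit_transpose _).2 (hAu n)) ?_
        rw [Matrix.mulVec_zero, Matrix.mulVec_mulVec, Matrix.mulVec_mulVec, hinv, hu]
      · refine Matrix.toLin'.injective ?_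
        rw [map_zero]
        exact LinearMap.ker_eq_top.1 htop
    intro u w huw
    exact LinearMap.ker_eq_bot.1 hker (by rwa [Matrix.toLin'_apply, Matrix.toLin'_apply])
  obtain ⟨U, hU⟩ := hgu
  have hmult : ∀ X : Matrix (Fin d) (Fin d) F, (∀ n, (A n)ᵀ * X * A n = X) → ∃ c : F, X = c • g := by
    intro X hX
    obtain ⟨c, hc⟩ := hscal ((↑U⁻¹ : Matrix (Fin d) (Fin d) F) * X) fun n => by
      set Mx := (↑U⁻¹ : Matrix (Fin d) (Fin d) F) * X with hMx
      have hgM : g * Mx = X := by rw [hMx, ← mul_assoc, ← hU, Units.mul_inv, one_mul]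
      refine (hU ▸ U.isUnit).mul_left_cancel (((Matrix.isUnit_transpose _).2 (hAu n)).mul_left_cancel ?_)
      calc (A n)ᵀ * (g * (Mx * A n)) = (A n)ᵀ * (g * Mx) * A n := by simp only [mul_assoc]
        _ = X := by rw [hgM, hX n]
        _ = (A n)ᵀ * g * A n * Mx := by rw [hinv i₀ j₀ n, hgM]
        _ = (A n)ᵀ * (g * (A n * Mx)) := by simp only [mul_assoc]
    refine ⟨c, ?_⟩
    have h := congrArg (fun Y => (U : Matrix (Fin d) (Fin d) F) * Y) hc
    simp only [← mul_assoc, Units.mul_inv, one_mul, Matrix.mul_smul, mul_one] at h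
    rw [h, hU]
  choose β hβ using fun i j => hmult _ (hinv i j)
  set K : Matrix (Fin k) (Fin k) F := Matrix.of β with hK
  -- pure tensors
  let T : (Fin k → F) →ₗ[F] (Fin d → F) →ₗ[F] (Fin 8 → F) :=
    LinearMap.mk₂ F (fun c x => assemble φ fun j => c j • x)
      (fun c c' x => by rw [← map_add]; congr 1; funext j; simp [add_smul])
      (fun a c x => by rw [← map_smul]; congr 1; funext j; simp [smul_smul])
      (fun c x x' => by rw [← map_add]; congr 1; funext j; simp [smul_add])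
      (fun a c x => by rw [← map_smul]; congr 1; funext j; simp [smul_smul, mul_comm])
  have hT : ∀ c c' x x', B (T c x) (T c' x') = (c ⬝ᵥ K *ᵥ c') * (x ⬝ᵥ g *ᵥ x') := fun c c' x x' => by
    show B (assemble φ fun j => c j • x) (assemble φ fun j => c' j • x') = _
    rw [hflat]
    have e : ∀ i j, (c i • x) ⬝ᵥ M i j *ᵥ (c' j • x') = c i * (β i j * c' j) * (x ⬝ᵥ g *ᵥ x') := fun i j => by
      rw [hβ, Matrix.smul_mulVec, Matrix.mulVec_smul, smul_dotProduct, dotProduct_smul, dotProduct_smul, smul_eq_mul,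
        smul_eq_mul, smul_eq_mul]
      ring
    simp only [e, ← Finset.sum_mul, ← Finset.mul_sum]
    rfl
  have hT0 : ∀ {c : Fin k → F} {x : Fin d → F}, T c x = 0 → ∀ j, c j • x = 0 := fun {c x} h j =>
    congrFun ((injective_iff_map_eq_zero (assemble φ)).1 hbij.1 _ h) j
  haveI : Nonempty (Fin d) := ⟨⟨0, by omega⟩⟩
  obtain ⟨ε, hgt⟩ := hmult gᵀ fun n => by
    rw [← Matrix.transpose_transpose (A n), ← Matrix.transpose_mul, ← Matrix.transpose_mul, Matrix.transpose_transpose,
      ← mul_assoc, hinv]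
  obtain ⟨a, b, hab⟩ : ∃ a b, g a b ≠ 0 := by
    by_contra hcon
    push Not at hcon
    exact hne (Matrix.ext fun a b => hcon a b)
  have hεε : ε * ε = 1 := by
    have h1 := congrFun (congrFun hgt b) a
    have h2 := congrFun (congrFun hgt a) b
    simp only [Matrix.transpose_apply, Matrix.smul_apply, smul_eq_mul] at h1 h2
    exact mul_right_cancel₀ hab (by linear_combination -h1 - ε * h2)
  have hKt : Kᵀ = ε • K := by
    ext i j
    have h1 := hT (Pi.single j 1) (Pi.single i 1) (Pi.single a 1) (Pi.single b 1)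
    have h2 := hT (Pi.single i 1) (Pi.single j 1) (Pi.single b 1) (Pi.single a 1)
    rw [hBsymm, h2] at h1
    have h3 := congrFun (congrFun hgt a) b
    simp only [Matrix.transpose_apply, Matrix.smul_apply, smul_eq_mul] at h3
    simp only [Matrix.mulVec_single_one, single_dotProduct, one_mul, Matrix.col_apply] at h1
    simp only [Matrix.transpose_apply, Matrix.smul_apply, smul_eq_mul]
    rw [h3] at h1
    exact mul_right_cancel₀ hab (by linear_combination -h1)
  have hcases : (d = 2 ∧ k = 4) ∨ (d = 4 ∧ k = 2) := by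
    have h4 : d ≤ 4 := by
      by_contra hcon
      have : 5 * 2 ≤ d * k := Nat.mul_le_mul (by omega) (by omega)
      omega
    interval_cases d <;> omega
  by_cases h2 : (2 : F) = 0
  swap
  · have hKu : IsUnit K := by
      rw [← Matrix.mulVec_injective_iff_isUnit]
      intro c c' hcc
      have hz : K *ᵥ (c - c') = 0 := by rw [Matrix.mulVec_sub, hcc, sub_self]
      have h0 : T (c - c') (Pi.single a 1) = 0 := by
        refine hQ.nd.1 _ fun v => ?_
        obtain ⟨u, rfl⟩ := hbij.2 v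
        rw [← hB, hBsymm]
        show B (assemble φ u) (assemble φ fun j => (c - c') j • Pi.single a 1) = 0
        rw [hflat]
        refine Finset.sum_eq_zero fun i _ => ?_
        simp only [hβ, Matrix.smul_mulVec, Matrix.mulVec_smul, dotProduct_smul, smul_eq_mul, ← mul_assoc, ← Finset.sum_mul]
        have := congrFun hz i
        simp only [Matrix.mulVec, dotProduct, hK, Matrix.of_apply, Pi.zero_apply] at this
        rw [show ∑ x, (c - c') x * β i x = 0 by rw [← this]; exact Finset.sum_congr rfl fun x _ => mul_comm _ _, zero_mul]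
      funext j
      exact sub_eq_zero.1 (by simpa using congrFun (hT0 h0 j) a)
    rcases hcases with ⟨rfl, rfl⟩ | ⟨rfl, rfl⟩
    · refine false_of_product hQ h2 T.flip hKu hεε hgt hKt (fun u u' t t' => ?_) fun t t' h => ?_
      · rw [LinearMap.flip_apply, LinearMap.flip_apply, hT, mul_comm]
      · have h' := (injective_iff_map_eq_zero (assemble φ)).1 hbij.1 _ ((map_add (assemble φ) (fun j => t j • (Pi.single 0 1 : Fin 2 → F))
          (fun j => t' j • (Pi.single 1 1 : Fin 2 → F))).trans h)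
        refine ⟨funext fun j => ?_, funext fun j => ?_⟩
        · simpa using congrFun (congrFun h' j) 0
        · simpa using congrFun (congrFun h' j) 1
    · refine false_of_product hQ h2 T (hU ▸ U.isUnit) hεε hKt hgt hT fun t t' h => ?_
      have h' := (injective_iff_map_eq_zero (assemble φ)).1 hbij.1 _ ((map_add (assemble φ) (fun j => (Pi.single 0 1 : Fin 2 → F) j • t)
        (fun j => (Pi.single 1 1 : Fin 2 → F) j • t')).trans h)
      exact ⟨by simpa using congrFun h' 0, by simpa using congrFun h' 1⟩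
  -- characteristic two
  have hε1 : ε = 1 := by
    rcases mul_self_eq_one_iff.1 hεε with h | h
    · exact h
    · rw [h]; linear_combination -h2
  subst hε1
  rw [one_smul] at hgt hKt
  have halt : ∀ x : Fin d → F, x ⬝ᵥ g *ᵥ x = 0 := fun x => alt_of_symm h2 hd A hirr hgt (fun n => hinv i₀ j₀ n) x
  have hkron : ∀ h ∈ G, ∃ (C : GL (Fin d) F) (D : GL (Fin k) F), ∀ v : Fin k → Fin d → F,
      (h : Matrix (Fin 8) (Fin 8) F) *ᵥ assemble φ v =
        assemble φ fun a => ∑ b, (D : Matrix (Fin k) (Fin k) F) a b • ((C : Matrix (Fin d) (Fin d) F) *ᵥ v b) :=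
    fun h hh => exists_kronecker (by omega) (by omega) A hirr hscal φ hequiv hbij h fun x hx => hnorm h hh x hx
  have hact : ∀ h ∈ G, ∃ (C : GL (Fin d) F) (D : GL (Fin k) F), (∀ v : Fin k → Fin d → F,
      (h : Matrix (Fin 8) (Fin 8) F) *ᵥ assemble φ v =
        assemble φ fun a => ∑ b, (D : Matrix (Fin k) (Fin k) F) a b • ((C : Matrix (Fin d) (Fin d) F) *ᵥ v b)) ∧
      ∀ c x, (h : Matrix (Fin 8) (Fin 8) F) *ᵥ T c x =
        T ((D : Matrix (Fin k) (Fin k) F) *ᵥ c) ((C : Matrix (Fin d) (Fin d) F) *ᵥ x) := fun h hh => by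
    obtain ⟨C, D, hCD⟩ := hkron h hh
    refine ⟨C, D, hCD, fun c x => ?_⟩
    show _ *ᵥ assemble φ (fun j => c j • x) = _
    rw [hCD]
    show _ = assemble φ _
    congr 1
    funext j
    simp only [Matrix.mulVec_smul, smul_smul, ← Finset.sum_smul]
    rfl
  have hKsym : ∀ c c', c ⬝ᵥ K *ᵥ c' = c' ⬝ᵥ K *ᵥ c := fun c c' => by
    rw [Matrix.dotProduct_mulVec, dotProduct_comm, ← Matrix.mulVec_transpose, hKt]
  have hKadd : ∀ c c', (c + c') ⬝ᵥ K *ᵥ (c + c') = c ⬝ᵥ K *ᵥ c + c' ⬝ᵥ K *ᵥ c' := fun c c' => by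
    simp only [Matrix.mulVec_add, add_dotProduct, dotProduct_add]
    rw [hKsym c' c]
    linear_combination (c ⬝ᵥ K *ᵥ c') * h2
  have hcardlt : ∀ {m : ℕ}, 1 < m → ∀ f : (Fin m → F) → F, ¬ Function.Injective f := fun {m} hm f hf => by
    have hcard := Fintype.card_le_of_injective f hf
    rw [Fintype.card_fun, Fintype.card_fin] at hcard
    have : Fintype.card F ^ 1 < Fintype.card F ^ m := Nat.pow_lt_pow_right Fintype.one_lt_card hm
    rw [pow_one] at this
    omega
  have hKalt : ∀ c : Fin k → F, c ⬝ᵥ K *ᵥ c = 0 := by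
    let W : Submodule F (Fin k → F) :=
      { carrier := {c | c ⬝ᵥ K *ᵥ c = 0}
        add_mem' := fun {c c'} (hc : c ⬝ᵥ K *ᵥ c = 0) (hc' : c' ⬝ᵥ K *ᵥ c' = 0) =>
          show (c + c') ⬝ᵥ K *ᵥ (c + c') = 0 by rw [hKadd, hc, hc', add_zero]
        zero_mem' := show (0 : Fin k → F) ⬝ᵥ K *ᵥ 0 = 0 by simp
        smul_mem' := fun a c (hc : c ⬝ᵥ K *ᵥ c = 0) => show (a • c) ⬝ᵥ K *ᵥ (a • c) = 0 by
          simp [Matrix.mulVec_smul, hc] }
    let S : Submodule F (Fin k → Fin d → F) :=
      { carrier := {v | ∀ i, (fun j => v j i) ∈ W}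
        add_mem' := fun hv hw i => W.add_mem (hv i) (hw i)
        zero_mem' := fun i => W.zero_mem
        smul_mem' := fun a v hv i => W.smul_mem a (hv i) }
    obtain ⟨i₁⟩ := ‹Nonempty (Fin d)›
    obtain ⟨x₀, y₀, hxy₀⟩ : ∃ x y, x ⬝ᵥ g *ᵥ y ≠ 0 := ⟨Pi.single a 1, Pi.single b 1, by simpa using hab⟩
    intro c
    rcases SLTwoPrime.eq_bot_or_top hirrG (S.map (assemble φ)) (fun h hh v hv => by
      obtain ⟨v, hvS, rfl⟩ := hv
      obtain ⟨C, D, hCD, hpure⟩ := hact h hh
      refine ⟨_, fun i => ?_, (hCD v).symm⟩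
      have hD : ∀ w ∈ W, (D : Matrix (Fin k) (Fin k) F) *ᵥ w ∈ W := fun w (hw : w ⬝ᵥ K *ᵥ w = 0) => by
        show ((D : Matrix (Fin k) (Fin k) F) *ᵥ w) ⬝ᵥ K *ᵥ ((D : Matrix (Fin k) (Fin k) F) *ᵥ w) = 0
        have h1 := MaxSub.Orth.iso_polar (hG hh) (T w x₀) (T w y₀)
        rw [← hB, hpure, hpure, hT, hT, hw, zero_mul] at h1
        refine (mul_eq_zero.1 h1).resolve_right fun h0 => ?_
        obtain ⟨w₁, w₂, hw12⟩ : ∃ w₁ w₂, w₁ ⬝ᵥ K *ᵥ w₂ ≠ 0 := by
          by_contra hcon
          push Not at hcon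
          have hK0 : K = 0 := ext_dot fun p q => by simp [hcon]
          exact hne (by rw [hg, hβ, show β i₀ j₀ = 0 from congrFun (congrFun hK0 i₀) j₀, zero_smul])
        have h3 := MaxSub.Orth.iso_polar (hG hh) (T w₁ x₀) (T w₂ y₀)
        rw [← hB, hpure, hpure, hT, hT, h0, mul_zero] at h3
        exact mul_ne_zero hw12 hxy₀ h3.symm
      have := hD _ (W.sum_mem (t := Finset.univ) (f := fun l => (C : Matrix (Fin d) (Fin d) F) i l • fun j => v j l)
        fun l _ => W.smul_mem _ (hvS l))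
      convert this using 1
      funext j
      simp [Matrix.mulVec, dotProduct, Finset.sum_apply]) with hS | hS
    · exfalso
      refine hcardlt hk (fun c : Fin k → F => c ⬝ᵥ K *ᵥ c) fun p q hpq => ?_
      have hm : p - q ∈ W := by
        show (p - q) ⬝ᵥ K *ᵥ (p - q) = 0
        have := hKadd (p - q) q
        rw [sub_add_cancel] at this
        simp only at hpq
        linear_combination hpq - this
      have hmem : T (p - q) (Pi.single i₁ 1) ∈ S.map (assemble φ) := by
        refine ⟨_, fun i => ?_, rfl⟩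
        have := W.smul_mem ((Pi.single i₁ (1 : F) : Fin d → F) i) hm
        convert this using 1
        funext j
        simp [mul_comm]
      rw [hS, Submodule.mem_bot] at hmem
      funext j
      exact sub_eq_zero.1 (by simpa using congrFun (hT0 hmem j) i₁)
    · obtain ⟨v, hv, hvc⟩ := (hS ▸ Submodule.mem_top : T c (Pi.single i₁ 1) ∈ S.map (assemble φ))
      have := hv i₁
      rw [show v = fun j => c j • Pi.single i₁ 1 from hbij.1 hvc] at this
      have h' : (fun j => c j) ∈ W := by convert this using 1; funext j; simp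
      exact h'
  -- the form vanishes on pure tensors
  have hQadd₁ : ∀ c c' x, Q (T (c + c') x) = Q (T c x) + Q (T c' x) := fun c c' x => by
    rw [map_add, LinearMap.add_apply, add_quad, ← hB, hT, halt, mul_zero, add_zero]
  have hQadd₂ : ∀ c x x', Q (T c (x + x')) = Q (T c x) + Q (T c x') := fun c x x' => by
    rw [map_add, add_quad, ← hB, hT, hKalt, zero_mul, add_zero]
  have hQsmul : ∀ (a : F) v, Q (a • v) = a * a * Q v := fun a v => by rw [QuadraticMap.map_smul, smul_eq_mul]
  let q : Fin k → Fin d → F := fun j i => Q (T (Pi.single j 1) (Pi.single i 1))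
  let Λ : (Fin k → Fin d → F) → F := fun v => ∑ j, ∑ i, v j i * v j i * q j i
  have hΛadd : ∀ v w, Λ (v + w) = Λ v + Λ w := fun v w => by
    simp only [Λ, ← Finset.sum_add_distrib, Pi.add_apply]
    refine Finset.sum_congr rfl fun j _ => Finset.sum_congr rfl fun i _ => ?_
    linear_combination (v j i * w j i * q j i) * h2
  have hΛsmul : ∀ (a : F) v, Λ (a • v) = a * a * Λ v := fun a v => by
    simp only [Λ, Finset.mul_sum, Pi.smul_apply, smul_eq_mul]
    exact Finset.sum_congr rfl fun j _ => Finset.sum_congr rfl fun i _ => by ring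
  have hΛpure : ∀ c x, Λ (fun j => c j • x) = Q (T c x) := fun c x => by
    let f₁ : (Fin d → F) → (Fin k → F) →+ F := fun x => AddMonoidHom.mk' (fun c => Q (T c x)) fun c c' => hQadd₁ c c' x
    let f₂ : (Fin k → F) → (Fin d → F) →+ F := fun c => AddMonoidHom.mk' (fun x => Q (T c x)) fun x x' => hQadd₂ c x x'
    symm
    show f₁ x c = _
    conv_lhs => rw [pi_eq_sum_univ' c, map_sum]
    refine Finset.sum_congr rfl fun j _ => ?_
    show Q (T (c j • Pi.single j 1) x) = _
    rw [map_smul, LinearMap.smul_apply, hQsmul]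
    show c j * c j * f₂ (Pi.single j 1) x = _
    conv_lhs => rw [pi_eq_sum_univ' x, map_sum]
    rw [Finset.mul_sum]
    refine Finset.sum_congr rfl fun i _ => ?_
    show c j * c j * Q (T (Pi.single j 1) (x i • Pi.single i 1)) = _
    rw [map_smul, hQsmul]
    simp only [Pi.smul_apply, smul_eq_mul, q]
    ring
  let W : Submodule F (Fin k → Fin d → F) :=
    { carrier := {v | Λ v = 0}
      add_mem' := fun {v w} (hv : Λ v = 0) (hw : Λ w = 0) => show Λ (v + w) = 0 by rw [hΛadd, hv, hw, add_zero]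
      zero_mem' := show Λ 0 = 0 by simp [Λ]
      smul_mem' := fun a v (hv : Λ v = 0) => show Λ (a • v) = 0 by rw [hΛsmul, hv, mul_zero] }
  have hQ0 : ∀ c x, Q (T c x) = 0 := by
    rcases SLTwoPrime.eq_bot_or_top hirrG (W.map (assemble φ)) (fun h hh v hv => by
      obtain ⟨v, hvW, rfl⟩ := hv
      obtain ⟨C, D, hCD, hpure⟩ := hact h hh
      refine ⟨_, ?_, (hCD v).symm⟩
      let ψ : (Fin k → Fin d → F) →ₗ[F] (Fin k → Fin d → F) :=
        { toFun := fun v a => ∑ b, (D : Matrix (Fin k) (Fin k) F) a b • ((C : Matrix (Fin d) (Fin d) F) *ᵥ v b)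
          map_add' := fun v w => by funext a; simp [Matrix.mulVec_add, Finset.sum_add_distrib]
          map_smul' := fun r v => by funext a; simp [Matrix.mulVec_smul, Finset.smul_sum, smul_comm r] }
      let f : (Fin k → Fin d → F) →+ F := AddMonoidHom.mk' Λ hΛadd
      show f (ψ v) = 0
      have hv' : f v = 0 := hvW
      rw [← hv']
      have hexp : v = ∑ j, ∑ i, v j i • fun l => (Pi.single j 1 : Fin k → F) l • (Pi.single i 1 : Fin d → F) := by
        funext l m
        simp [Finset.sum_apply, Pi.single_apply, ite_apply, mul_comm]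
      rw [hexp]
      simp only [map_sum, map_smul]
      refine Finset.sum_congr rfl fun j _ => Finset.sum_congr rfl fun i _ => ?_
      show Λ _ = Λ _
      rw [hΛsmul, hΛsmul, hΛpure]
      congr 1
      have hψ : ψ (fun l => (Pi.single j 1 : Fin k → F) l • (Pi.single i 1 : Fin d → F)) =
          fun l => ((D : Matrix (Fin k) (Fin k) F) *ᵥ Pi.single j 1) l • ((C : Matrix (Fin d) (Fin d) F) *ᵥ Pi.single i 1) := by
        funext l
        simp only [ψ, LinearMap.coe_mk, AddHom.coe_mk]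
        simp only [Matrix.mulVec_smul, smul_smul, ← Finset.sum_smul]
        rfl
      rw [hψ, hΛpure, ← hpure, MaxSub.Orth.iso_quad (hG hh)]) with hW | hW
    · exfalso
      have hinj : Function.Injective Λ := fun p r hpr => by
        have hm : assemble φ (p - r) ∈ W.map (assemble φ) := Submodule.mem_map_of_mem (by
          show Λ (p - r) = 0
          have := hΛadd (p - r) r
          rw [sub_add_cancel, hpr] at this
          linear_combination -this)
        rw [hW, Submodule.mem_bot] at hm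
        exact sub_eq_zero.1 ((injective_iff_map_eq_zero (assemble φ)).1 hbij.1 _ hm)
      have hcard := Fintype.card_le_of_injective Λ hinj
      rw [Fintype.card_fun, Fintype.card_fun, Fintype.card_fin, Fintype.card_fin, ← pow_mul, hdk] at hcard
      have : Fintype.card F ^ 1 < Fintype.card F ^ 8 := Nat.pow_lt_pow_right Fintype.one_lt_card (by norm_num)
      rw [pow_one] at this
      omega
    · intro c x
      obtain ⟨v, hv, hvc⟩ := (hW ▸ Submodule.mem_top : T c x ∈ W.map (assemble φ))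
      rw [← hΛpure]
      rw [show v = fun j => c j • x from hbij.1 hvc] at hv
      exact hv
  rcases hcases with ⟨rfl, rfl⟩ | ⟨rfl, rfl⟩
  · refine false_of_ts hQ (T.flip (Pi.single 0 1)) ?_ fun t => hQ0 _ _
    rw [injective_iff_map_eq_zero]
    intro t ht
    funext j
    simpa using congrFun (hT0 ht j) 0
  · refine false_of_ts hQ (T (Pi.single 0 1)) ?_ fun t => hQ0 _ _
    rw [injective_iff_map_eq_zero]
    intro t ht
    simpa using hT0 ht 0

end Cfsg.Agent.Lib.MinusEight
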